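import Cfsg.Agent.InvAb.Disjoint
import Cfsg.Agent.SL2Class.Basic
import Cfsg.Agent.Invol.UniqueInvolution

/-!
# Groups with abelian involution centralisers

Suzuki's theorem: the Sylow 2-subgroups are cyclic, or one of them is normal, or the group is the
direct product of `SL(2, 2^f)` with an abelian group of odd order.
-/

set_option autoImplicit false

open Subgroup MulAction
open Cfsg.Agent.Fg24.CT (Inv2 invAt swaps pair mem_pair pair_comm smul_of_swap)

namespace Cfsg.Agent.InvAb

universe u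

variable {G : Type u} [Group G] [Finite G]

open scoped MatrixGroups in
/-- A carrier for a copy of a finite group in `Type`. -/
def Carrier (n : ℕ) : Type := Fin n

instance (n : ℕ) : Finite (Carrier n) := inferInstanceAs (Finite (Fin n))

/-- Odd subgroups with central element: their images in `SL(2, 2^f)` are cyclic. -/
theorem isCyclic_of_pgroup_sl2 {F : Type} [Field F] [Fintype F] [CharP F 2] {r : ℕ} [Fact r.Prime]
    (hr : r ≠ 2) (X : Subgroup (Matrix.SpecialLinearGroup (Fin 2) F)) (hX : IsPGroup r X) :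
    IsCyclic X := by
  rcases subsingleton_or_nontrivial X with h | h
  · infer_instance
  have hne := hX.center_nontrivial
  obtain ⟨⟨z, hz⟩, hz1⟩ := exists_ne (1 : center X)
  set g : Matrix.SpecialLinearGroup (Fin 2) F := (z : Matrix.SpecialLinearGroup (Fin 2) F) with hg
  have hg1 : g ≠ 1 := fun e => hz1 (Subtype.ext (Subtype.ext e))
  have hgodd : Odd (orderOf g) := by
    obtain ⟨k, hk⟩ := hX z
    rw [hg, Subgroup.orderOf_coe]
    exact ((Fact.out : r.Prime).odd_of_ne_two hr).pow.of_dvd_nat (orderOf_dvd_of_pow_eq_one hk)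
  have ht : SL2Class.tr g * SL2Class.tr g ≠ 4 := by
    intro e
    have h0 : SL2Class.tr g = 0 := by
      have h2 : (2 : F) = 0 := CharTwo.two_eq_zero
      have h4 : (4 : F) = 0 := by rw [show (4 : F) = 2 * 2 by norm_num, h2, mul_zero]
      rw [h4] at e
      exact mul_self_eq_zero.mp e
    refine hg1 (odd_ne_inv2 hgodd (Subtype.ext ?_))
    rw [Matrix.SpecialLinearGroup.coe_mul, SL2Class.g_sq, h0, Matrix.SpecialLinearGroup.coe_one]
    have h1 : (-1 : F) = 1 := CharTwo.neg_eq 1
    rw [h1, SL2Class.lin_one]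
  have := SL2Class.isCyclic_centralizer ht
  have hle : X ≤ centralizer ({g} : Set (Matrix.SpecialLinearGroup (Fin 2) F)) := fun y hy =>
    mem_centralizer_singleton_iff.mpr (congrArg Subtype.val (mem_center_iff.mp hz ⟨y, hy⟩))
  exact isCyclic_of_injective (Subgroup.inclusion hle) (Subgroup.inclusion_injective hle)

theorem Sys.main (hS : Sys G) :
    ∃ (F : Type) (_ : Field F) (_ : Fintype F) (A : Type) (_ : CommGroup A) (_ : Finite A),
      CharP F 2 ∧ Odd (Nat.card A) ∧ Nonempty (G ≃* Matrix.SpecialLinearGroup (Fin 2) F × A) := by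
  classical
  have hd : Disj (G ⧸ Zi G) := hS.quot.disj hS.Zi_quot
  have hC := hS.quot.conf hd
  obtain ⟨τ, hτ⟩ := hC.invol_exists
  obtain ⟨P₀, -⟩ := exists_sylow hτ
  obtain ⟨-, -, F, iF, iFt, f, hf, hcard, ⟨e⟩⟩ := hC.kernel hS.quot.four_at P₀
  have : Fact (Nat.Prime 2) := ⟨Nat.prime_two⟩
  have hchar : CharP F 2 := by
    obtain ⟨p, hp⟩ := CharP.exists F
    obtain ⟨n, hp', hn⟩ := FiniteField.card F p
    rw [hcard] at hn
    have : p = 2 := ((Nat.prime_dvd_prime_iff_eq hp' Nat.prime_two).mp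
      (hp'.dvd_of_dvd_pow (n := f) (by rw [hn]; exact dvd_pow_self p n.ne_zero)))
    rwa [this] at hp
  set π := e.toMonoidHom.comp (QuotientGroup.mk' (Zi G)) with hπ
  have hker : ∀ g, π g = 1 ↔ g ∈ Zi G := fun g => by
    rw [hπ]; simp
  set L := closure {t : G | Inv2 t} with hL
  have hcen : ∀ z ∈ Zi G, ∀ g : G, Commute g z := fun z hz g => hS.Zi_le_center hd hz g
  have htriv : ∀ z : G, z ∈ L → z ∈ Zi G → z = 1 := by
    intro z hzL hz
    by_contra h1
    obtain ⟨r, hr, hrz⟩ := Nat.exists_prime_and_dvd (n := orderOf z)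
      (fun e => h1 (orderOf_eq_one_iff.mp e))
    have : Fact r.Prime := ⟨hr⟩
    have hr2 : r ≠ 2 := by
      rintro rfl
      exact Nat.not_even_iff_odd.mpr (hS.Zi_odd hz) (even_iff_two_dvd.mpr hrz)
    obtain ⟨k, hk⟩ := hrz
    -- a non-trivial `r`-element of `L ∩ Zi G`
    set w : L := ⟨z ^ k, pow_mem hzL k⟩ with hw
    have hwZ : (w : G) ∈ Zi G := pow_mem hz k
    have hword : orderOf w = r := by
      rw [← Subgroup.orderOf_coe]
      show orderOf (z ^ k) = r
      have hk0 : k ≠ 0 := by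
        rintro rfl
        have := orderOf_pos z
        rw [hk, mul_zero] at this
        omega
      rw [orderOf_pow_of_dvd hk0 (hk ▸ dvd_mul_left k r), hk,
        Nat.mul_div_cancel r (Nat.pos_of_ne_zero hk0)]
    obtain ⟨R, hR⟩ := (IsPGroup.of_card (p := r) (n := 1) (G := zpowers w) (by
      rw [Nat.card_zpowers, pow_one]; exact hword)).exists_le_sylow
    let ψ : (R : Subgroup L) →* Matrix.SpecialLinearGroup (Fin 2) F :=
      π.comp (L.subtype.comp (R : Subgroup L).subtype)
    have : IsCyclic ψ.range := isCyclic_of_pgroup_sl2 hr2 _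
      (R.2.of_surjective ψ.rangeRestrict ψ.rangeRestrict_surjective)
    have hRab : ∀ a b : (R : Subgroup L), a * b = b * a :=
      commutative_of_cyclic_center_quotient ψ.rangeRestrict fun a ha => mem_center_iff.mpr fun b => by
        have : ψ a = 1 := congrArg Subtype.val (MonoidHom.mem_ker.mp ha)
        exact Subtype.ext (Subtype.ext (hcen _ ((hker _).mp this) ((b : L) : G)).eq)
    let _ : CommGroup (R : Subgroup L) :=
      { (inferInstance : Group (R : Subgroup L)) with mul_comm := hRab }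
    let φ := MonoidHom.transfer (MonoidHom.id (R : Subgroup L))
    have hRodd : Odd (Nat.card (R : Subgroup L)) := by
      obtain ⟨n, hn⟩ := IsPGroup.iff_card.mp R.2
      rw [hn]; exact (hr.odd_of_ne_two hr2).pow
    have hφ : ∀ (g : G) (hg : g ∈ L), φ ⟨g, hg⟩ = 1 := by
      intro g hg
      induction hg using Subgroup.closure_induction with
      | mem x hx =>
        refine odd_ne_inv2 (hRodd.of_dvd_nat (orderOf_dvd_natCard _)) ?_
        rw [← map_mul]
        convert map_one φ
        exact Subtype.ext hx.2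
      | one => exact map_one φ
      | mul x y hx' hy' hx hy =>
        rw [show (⟨x * y, mul_mem hx' hy'⟩ : L) = ⟨x, hx'⟩ * ⟨y, hy'⟩ from rfl, map_mul, hx, hy,
          one_mul]
      | inv x hx' hx =>
        rw [show (⟨x⁻¹, inv_mem hx'⟩ : L) = ⟨x, hx'⟩⁻¹ from rfl, map_inv, hx, inv_one]
    have hwc : ∀ g : L, g * w = w * g := fun g => Subtype.ext (hcen _ hwZ (g : G)).eq
    have key : ∀ (i : ℕ) (g₀ : L), g₀⁻¹ * w ^ i * g₀ ∈ (R : Subgroup L) →
        g₀⁻¹ * w ^ i * g₀ = w ^ i := fun i g₀ _ => by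
      rw [mul_assoc, ← ((show Commute g₀ w from hwc g₀).pow_right i).eq, inv_mul_cancel_left]
    have h2 : φ w = _ := MonoidHom.transfer_eq_pow (MonoidHom.id (R : Subgroup L)) w key
    rw [hφ (w : G) w.2] at h2
    have h3 : w ^ (R : Subgroup L).index = 1 := (congrArg Subtype.val h2).symm
    have h4 := orderOf_dvd_of_pow_eq_one h3
    rw [hword] at h4
    exact R.not_dvd_index h4
  have hinf : ∀ g : L, π g = 1 → g = 1 := fun g h => Subtype.ext (htriv g g.2 ((hker _).mp h))
  have hbijL : Function.Bijective (π.comp L.subtype) := by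
    refine ⟨(injective_iff_map_eq_one _).mpr hinf, ?_⟩
    intro y
    obtain ⟨g, rfl⟩ : ∃ g, π g = y := by
      obtain ⟨g, hg⟩ := QuotientGroup.mk'_surjective (Zi G) (e.symm y)
      exact ⟨g, by rw [hπ]; show e (QuotientGroup.mk' (Zi G) g) = y; rw [hg, e.apply_symm_apply]⟩
    have hmem : g ∈ L ⊔ Zi G := by rw [hL, hS.closure_sup hd]; exact mem_top g
    obtain ⟨l, hl, z, hz, rfl⟩ := mem_sup_of_normal_right.mp hmem
    exact ⟨⟨l, hl⟩, by rw [map_mul, (hker z).mpr hz, mul_one]; rfl⟩
  let eL := MulEquiv.ofBijective (π.comp L.subtype) hbijL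
  let _ : CommGroup (Zi G) :=
    { (inferInstance : Group (Zi G)) with
      mul_comm := fun a b => Subtype.ext (hS.Zi_comm a.2 b.2).eq }
  let Φ : L × Zi G →* G :=
    { toFun := fun p => (p.1 : G) * p.2
      map_one' := by simp
      map_mul' := fun p q => by
        show (p.1 : G) * q.1 * (p.2 * q.2) = p.1 * p.2 * (q.1 * q.2)
        calc (p.1 : G) * q.1 * (p.2 * q.2) = p.1 * ((q.1 : G) * p.2) * q.2 := by group
          _ = p.1 * ((p.2 : G) * q.1) * q.2 := by rw [(hcen _ p.2.2 (q.1 : G)).eq]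
          _ = p.1 * p.2 * (q.1 * q.2) := by group }
  have hΦ : Function.Bijective Φ := by
    constructor
    · rw [injective_iff_map_eq_one]
      rintro ⟨⟨l, hl⟩, ⟨z, hz⟩⟩ h
      have h' : l * z = 1 := h
      have hl1 : l = 1 := htriv l hl (eq_inv_of_mul_eq_one_left h' ▸ inv_mem hz)
      subst hl1
      rw [one_mul] at h'
      subst h'
      rfl
    · intro g
      have hmem : g ∈ L ⊔ Zi G := by rw [hL, hS.closure_sup hd]; exact mem_top g
      obtain ⟨l, hl, z, hz, rfl⟩ := mem_sup_of_normal_right.mp hmem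
      exact ⟨(⟨l, hl⟩, ⟨z, hz⟩), rfl⟩
  let A := Carrier (Nat.card (Zi G))
  let eA : A ≃ Zi G := (Finite.equivFin (Zi G)).symm
  letI : CommGroup A := eA.commGroup
  refine ⟨F, iF, iFt, A, inferInstance, inferInstance, hchar, ?_,
    ⟨(MulEquiv.ofBijective Φ hΦ).symm.trans (MulEquiv.prodCongr eL eA.mulEquiv.symm)⟩⟩
  rw [Nat.card_congr eA, ← Nat.not_even_iff_odd]
  intro h
  obtain ⟨z, hz⟩ := exists_prime_orderOf_dvd_card' (G := Zi G) 2 (even_iff_two_dvd.mp h)
  have h' := hS.Zi_odd z.2
  rw [Subgroup.orderOf_coe, hz] at h'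
  exact absurd h' (by decide)

/-- Suzuki's theorem on abelian involution centralisers. -/
theorem trichotomy (hev : Even (Nat.card G))
    (h : ∀ t : G, orderOf t = 2 → IsMulCommutative ↥(centralizer ({t} : Set G))) :
    (∀ P : Sylow 2 G, IsCyclic ↥P) ∨ (∀ P : Sylow 2 G, (P : Subgroup G).Normal) ∨
    (∃ (F : Type) (_ : Field F) (_ : Fintype F) (A : Type) (_ : CommGroup A) (_ : Finite A),
      CharP F 2 ∧ Odd (Nat.card A) ∧
        Nonempty (G ≃* Matrix.SpecialLinearGroup (Fin 2) F × A)) := by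
  have : Fact (Nat.Prime 2) := ⟨Nat.prime_two⟩
  have hab : ∀ t : G, Inv2 t → ∀ x y : G, Commute x t → Commute y t → Commute x y :=
    fun t ht x y hx hy => by
      have := h t (inv2_orderOf ht)
      exact congrArg Subtype.val (this.is_comm.comm ⟨x, mem_centralizer_singleton_iff.mpr hx.eq⟩
        ⟨y, mem_centralizer_singleton_iff.mpr hy.eq⟩)
  -- Sylow 2-subgroups are abelian
  have hPab : ∀ P : Sylow 2 G, ∀ x ∈ (P : Subgroup G), ∀ y ∈ (P : Subgroup G), Commute x y := by
    intro P
    have hne : Nontrivial (P : Subgroup G) :=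
      (nontrivial_iff_ne_bot _).mpr (P.ne_bot_of_dvd_card (even_iff_two_dvd.mp hev))
    obtain ⟨w, hw⟩ := exists_prime_orderOf_dvd_card' (G := center (P : Subgroup G)) 2 (by
      obtain ⟨k, hk, hk'⟩ :=
        (P.2.to_subgroup (center _)).nontrivial_iff_card.mp P.2.center_nontrivial
      rw [hk']; exact dvd_pow_self 2 hk.ne')
    have hw' : orderOf ((w : (P : Subgroup G)) : G) = 2 := by
      rw [Subgroup.orderOf_coe, Subgroup.orderOf_coe]; exact hw
    have hI : Inv2 ((w : (P : Subgroup G)) : G) := ⟨fun e => by simp [e] at hw', by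
      have := pow_orderOf_eq_one ((w : (P : Subgroup G)) : G)
      rwa [hw', pow_two] at this⟩
    exact fun x hx y hy => hab _ hI x y (congrArg Subtype.val (mem_center_iff.mp w.2 ⟨x, hx⟩))
      (congrArg Subtype.val (mem_center_iff.mp w.2 ⟨y, hy⟩))
  by_cases hcyc : ∀ P : Sylow 2 G, IsCyclic ↥P
  · exact Or.inl hcyc
  right
  have hfour : ∃ s t : G, Inv2 s ∧ Inv2 t ∧ Commute s t ∧ s ≠ t := by
    push Not at hcyc
    obtain ⟨P, hP⟩ := hcyc
    have : IsMulCommutative (P : Subgroup G) :=
      ⟨⟨fun a b => Subtype.ext (hPab P a a.2 b b.2).eq⟩⟩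
    by_contra hno
    refine hP (Invol.isCyclic_of_unique_involution P.2 fun a b ha hb => ?_)
    by_contra hne
    have hI : ∀ c : (P : Subgroup G), orderOf c = 2 → Inv2 (c : G) := fun c hc =>
      ⟨fun e => by rw [← Subgroup.orderOf_coe, e, orderOf_one] at hc; omega, by
        have := congrArg Subtype.val (pow_orderOf_eq_one c)
        rwa [hc, pow_two] at this⟩
    exact hno ⟨a, b, hI a ha, hI b hb, hPab P a a.2 b b.2, fun e => hne (Subtype.ext e)⟩
  by_cases hnc : ∃ s t : G, Inv2 s ∧ Inv2 t ∧ ¬ Commute s t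
  · exact Or.inr (Sys.main ⟨hab, hfour, hnc⟩)
  left
  intro P
  push Not at hnc
  obtain ⟨s, -, hs, -⟩ := hfour
  obtain ⟨P₀, hP₀⟩ := exists_sylow hs
  -- the centraliser of one involution is that of all
  have hall : ∀ g : G, ∀ x ∈ (P₀ : Subgroup G), g * x * g⁻¹ ∈ centralizer ({s} : Set G) := by
    intro g x hx
    have h1 : Commute (g * x * g⁻¹) (g * s * g⁻¹) := by
      have := (hPab P₀ x hx s hP₀).map (MulAut.conj g).toMonoidHom
      simpa using this
    exact mem_centralizer_singleton_iff.mpr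
      (hab _ (hs.conj g) _ s h1 (hnc s (g * s * g⁻¹) hs (hs.conj g))).eq
  have hsub : Subsingleton (Sylow 2 G) := by
    refine ⟨fun Q R => ?_⟩
    have hQ : ∀ S : Sylow 2 G, ∀ x ∈ (S : Subgroup G), Commute x s := fun S x hx => by
      obtain ⟨g, hg⟩ := exists_smul_eq G P₀ S
      rw [← hg, Sylow.coe_subgroup_smul, mem_pointwise_smul_iff_inv_smul_mem] at hx
      have := mem_centralizer_singleton_iff.mp (hall g _ hx)
      simp only [← map_inv, MulAut.smul_def, MulAut.conj_apply, inv_inv] at this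
      rw [show g * (g⁻¹ * x * g) * g⁻¹ = x by group] at this
      exact this
    have hle : (Q : Subgroup G) ≤ normalizer ((R : Subgroup G) : Set G) := fun x hx =>
      centralizer_le_normalizer _ (mem_centralizer_iff.mpr fun y hy =>
        (hab s hs y x (hQ R y hy) (hQ Q x hx)).eq)
    have := Q.2.inf_normalizer_sylow R
    exact Sylow.ext (Q.3 R.2 (inf_eq_left.mp (this.symm.trans (inf_eq_left.mpr hle)))).symm
  exact Sylow.normal_of_subsingleton P

end Cfsg.Agent.InvAb
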