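import Cfsg.Agent.InvAb.Structure

/-!
# Groups in which involution centralisers are abelian

The system `Sys G`: involution centralisers are abelian, two involutions commute and two do not.
The Sylow 2-subgroups are then the points of a configuration `InvAb.Conf`, apart from the
disjointness of their centralisers, and the quotient by the centraliser `Zi G` of all involutions
is again such a system.
-/

set_option autoImplicit false

open Subgroup MulAction
open Cfsg.Agent.Fg24.CT (Inv2 invAt swaps pair mem_pair pair_comm smul_of_swap)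

namespace Cfsg.Agent.InvAb

universe u

variable {G : Type u} [Group G]

/-- Involution centralisers are abelian, two involutions commute and two do not. -/
structure Sys (G : Type u) [Group G] : Prop where
  ab : ∀ t : G, Inv2 t → ∀ x y : G, Commute x t → Commute y t → Commute x y
  four : ∃ s t : G, Inv2 s ∧ Inv2 t ∧ Commute s t ∧ s ≠ t
  noncomm : ∃ s t : G, Inv2 s ∧ Inv2 t ∧ ¬ Commute s t

/-- The centraliser of all involutions. -/
abbrev Zi (G : Type u) [Group G] : Subgroup G := centralizer {t : G | Inv2 t}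

theorem mem_Zi {g : G} : g ∈ Zi G ↔ ∀ t : G, Inv2 t → Commute g t :=
  ⟨fun h t ht => (mem_centralizer_iff.mp h t ht).symm,
    fun h => mem_centralizer_iff.mpr fun t ht => (h t ht).symm⟩

instance Zi_normal : (Zi G).Normal := ⟨fun n hn g => mem_Zi.mpr fun t ht => by
  have h := ((mem_Zi.mp hn) _ (ht.conj g⁻¹)).map (MulAut.conj g).toMonoidHom
  simp only [MulEquiv.coe_toMonoidHom, MulAut.conj_apply, inv_inv] at h
  rwa [show g * (g⁻¹ * t * g) * g⁻¹ = t by group] at h⟩

theorem inv2_orderOf {t : G} (ht : Inv2 t) : orderOf t = 2 :=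
  orderOf_eq_prime (by rw [pow_two]; exact ht.2) ht.1

theorem inv2_coe {M : Subgroup G} {t : M} : Inv2 t ↔ Inv2 (t : G) :=
  ⟨fun h => ⟨fun e => h.1 (Subtype.ext e), congrArg Subtype.val h.2⟩,
    fun h => ⟨fun e => h.1 (congrArg Subtype.val e), Subtype.ext h.2⟩⟩

theorem odd_ne_inv2 [Finite G] {y : G} (hy : Odd (orderOf y)) (h : y * y = 1) : y = 1 := by
  have h2 : orderOf y ∣ 2 := orderOf_dvd_of_pow_eq_one (by rw [pow_two]; exact h)
  obtain ⟨i, hi⟩ := hy
  have := Nat.le_of_dvd two_pos h2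
  exact orderOf_eq_one_iff.mp (by omega)

theorem odd_mem_of_sq_mem [Finite G] {H : Subgroup G} {y : G} (hy : Odd (orderOf y))
    (h : y * y ∈ H) : y ∈ H := by
  obtain ⟨i, hi⟩ := hy
  have := pow_mem h (i + 1)
  rwa [← pow_two, ← pow_mul, show 2 * (i + 1) = orderOf y + 1 by omega, pow_succ,
    pow_orderOf_eq_one, one_mul] at this

theorem commute_of_odd_sq [Finite G] {h e : G} (hh : Odd (orderOf h)) (hc : Commute (h * h) e) :
    Commute h e :=
  mem_centralizer_singleton_iff.mp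
    (odd_mem_of_sq_mem hh (mem_centralizer_singleton_iff.mpr hc.eq :
      h * h ∈ centralizer ({e} : Set G)))

/-- A finite group with an involution has an odd number of them. -/
theorem odd_card_invol [Finite G] {t : G} (ht : Inv2 t) :
    Odd (Nat.card {s : G // Inv2 s}) := by
  classical
  have := Fintype.ofFinite G
  have h1 : ((Finset.univ.filter fun g : G => g ≠ g⁻¹).card : ZMod 2) = 0 := by
    rw [Finset.cast_card]
    refine Finset.sum_involution (fun g _ => g⁻¹) (fun g _ => CharTwo.add_self_eq_zero 1)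
      (fun g hg _ => ((Finset.mem_filter.mp hg).2).symm) (fun g hg => ?_) (fun g _ => inv_inv g)
    rw [Finset.mem_filter] at hg ⊢
    exact ⟨Finset.mem_univ _, by rw [inv_inv]; exact hg.2.symm⟩
  have h2 : (Finset.univ.filter fun g : G => g = g⁻¹).card =
      Nat.card {s : G // Inv2 s} + 1 := by
    rw [← Fintype.card_subtype, ← Nat.card_eq_fintype_card, ← Finite.card_option]
    refine (Nat.card_congr ((Equiv.optionCongr ?_).trans
      (Equiv.optionSubtypeNe (⟨1, inv_one.symm⟩ : {g : G // g = g⁻¹})))).symm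
    exact
      { toFun := fun s => ⟨⟨s, s.2.inv_eq.symm⟩, fun e => s.2.1 (congrArg Subtype.val e)⟩
        invFun := fun g => ⟨g.1.1, fun e => g.2 (Subtype.ext e),
          mul_eq_one_iff_eq_inv.mpr g.1.2⟩
        left_inv := fun s => rfl
        right_inv := fun g => rfl }
  have h3 := Finset.card_filter_add_card_filter_not (s := (Finset.univ : Finset G))
    (fun g : G => g = g⁻¹)
  rw [Finset.card_univ, h2] at h3
  have h4 : 2 ∣ Nat.card G := by rw [← inv2_orderOf ht]; exact orderOf_dvd_natCard t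
  have h5 := (ZMod.natCast_eq_zero_iff_even.mp h1).two_dvd
  rw [Nat.card_eq_fintype_card (α := G)] at h4
  rw [Nat.odd_iff]
  simp only [ne_eq] at h5
  omega

/-- The kernel attached to a Sylow 2-subgroup. -/
abbrev ker2 (P : Sylow 2 G) : Subgroup G := centralizer ((P : Subgroup G) : Set G)

/-- The centralisers of distinct Sylow 2-subgroups meet trivially. -/
def Disj (G : Type u) [Group G] : Prop :=
  ∀ P Q : Sylow 2 G, P ≠ Q → ∀ x ∈ ker2 P, x ∈ ker2 Q → x = 1

variable [Finite G] (hS : Sys G)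
include hS

/-- Non-commuting involutions are conjugate. -/
theorem Sys.isConj_of_not_commute {s t : G} (hs : Inv2 s) (ht : Inv2 t) (h : ¬ Commute s t) :
    ∃ g : G, g * s * g⁻¹ = t := by
  set c := s * t with hc
  have hsc : s * c * s = c⁻¹ := by
    rw [hc, mul_inv_rev, ht.inv_eq, hs.inv_eq, ← mul_assoc s s t, hs.2, one_mul]
  have hpow : ∀ i : ℕ, s * c ^ i * s = (c ^ i)⁻¹ := fun i => by
    have h := conj_pow (a := s) (b := c) (i := i)
    rw [hs.inv_eq, hsc, inv_pow] at h
    exact h.symm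
  rcases Nat.even_or_odd' (orderOf c) with ⟨m, hm | hm⟩
  · exfalso
    have hpos := orderOf_pos c
    have hz2 : c ^ m * c ^ m = 1 := by rw [← pow_add, ← two_mul, ← hm, pow_orderOf_eq_one]
    have hz : Inv2 (c ^ m) := ⟨pow_ne_one_of_lt_orderOf (by omega) (by omega), hz2⟩
    have hzs : Commute s (c ^ m) := by
      show s * c ^ m = c ^ m * s
      calc s * c ^ m = s * c ^ m * s * s := by rw [mul_assoc (s * c ^ m) s s, hs.2, mul_one]
        _ = c ^ m * s := by rw [hpow, hz.inv_eq]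
    refine h (hS.ab _ hz s t hzs ?_)
    rw [show t = s * c by rw [hc, ← mul_assoc, hs.2, one_mul]]
    exact hzs.mul_left (Commute.self_pow c m)
  · refine ⟨c ^ m * s, ?_⟩
    have h1 : c ^ m * c ^ m * c = 1 := by
      rw [← pow_add, ← pow_succ, ← two_mul, ← hm, pow_orderOf_eq_one]
    rw [mul_inv_rev, hs.inv_eq]
    calc c ^ m * s * s * (s * (c ^ m)⁻¹) = c ^ m * (s * s) * (s * (c ^ m)⁻¹) := by group
      _ = c ^ m * (s * (c ^ m)⁻¹ * s) * s := by
          rw [hs.2, mul_one, mul_assoc (c ^ m) _ s, mul_assoc (s * (c ^ m)⁻¹) s s, hs.2, mul_one]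
      _ = c ^ m * c ^ m * s := by
          rw [show s * (c ^ m)⁻¹ * s = (s * c ^ m * s)⁻¹ by
            rw [mul_inv_rev, mul_inv_rev, hs.inv_eq, mul_assoc], hpow, inv_inv]
      _ = t := by
          rw [eq_inv_of_mul_eq_one_left h1, hc, mul_inv_rev, ht.inv_eq, hs.inv_eq, mul_assoc, hs.2,
            mul_one]

/-- All involutions are conjugate. -/
theorem Sys.isConj {s t : G} (hs : Inv2 s) (ht : Inv2 t) : ∃ g : G, g * s * g⁻¹ = t := by
  by_cases h : Commute s t
  · obtain ⟨a, b, ha, hb, hab⟩ := hS.noncomm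
    obtain ⟨u, hu, hsu⟩ : ∃ u, Inv2 u ∧ ¬ Commute s u := by
      by_cases h1 : Commute s a
      · exact ⟨b, hb, fun h2 => hab (hS.ab s hs a b h1.symm h2.symm)⟩
      · exact ⟨a, ha, h1⟩
    obtain ⟨g, hg⟩ := hS.isConj_of_not_commute hs hu hsu
    obtain ⟨k, hk⟩ := hS.isConj_of_not_commute hu ht fun h1 => hsu (hS.ab t ht s u h h1)
    exact ⟨k * g, by rw [← hk, ← hg]; group⟩
  · exact hS.isConj_of_not_commute hs ht h

theorem Sys.card_invol {s : G} (hs : Inv2 s) :
    Nat.card {t : G // Inv2 t} = (centralizer ({s} : Set G)).index := by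
  let f : G ⧸ centralizer ({s} : Set G) → {t : G // Inv2 t} := fun q =>
    Quotient.liftOn' q (fun g => ⟨g * s * g⁻¹, hs.conj g⟩) fun a b h => by
      rw [QuotientGroup.leftRel_apply, mem_centralizer_singleton_iff] at h
      refine Subtype.ext ?_
      show a * s * a⁻¹ = b * s * b⁻¹
      calc a * s * a⁻¹ = a * (s * (a⁻¹ * b)) * b⁻¹ := by group
        _ = a * (a⁻¹ * b * s) * b⁻¹ := by rw [h]
        _ = b * s * b⁻¹ := by group
  refine (Nat.card_congr (Equiv.ofBijective f ⟨?_, ?_⟩)).symm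
  · rintro ⟨a⟩ ⟨b⟩ h
    have h' : a * s * a⁻¹ = b * s * b⁻¹ := congrArg Subtype.val h
    refine QuotientGroup.eq.mpr (mem_centralizer_singleton_iff.mpr ?_)
    calc a⁻¹ * b * s = a⁻¹ * (b * s * b⁻¹) * b := by group
      _ = a⁻¹ * (a * s * a⁻¹) * b := by rw [h']
      _ = s * (a⁻¹ * b) := by group
  · rintro ⟨t, ht⟩
    obtain ⟨g, hg⟩ := hS.isConj hs ht
    exact ⟨(g : G ⧸ centralizer ({s} : Set G)), Subtype.ext hg⟩

theorem Sys.sylow_comm (P : Sylow 2 G) {x y : G} (hx : x ∈ (P : Subgroup G))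
    (hy : y ∈ (P : Subgroup G)) : Commute x y := by
  have : Fact (Nat.Prime 2) := ⟨Nat.prime_two⟩
  obtain ⟨s, -, hs, -⟩ := hS.four
  have hne : Nontrivial (P : Subgroup G) := (nontrivial_iff_ne_bot _).mpr
    (P.ne_bot_of_dvd_card (by rw [← inv2_orderOf hs]; exact orderOf_dvd_natCard s))
  obtain ⟨w, hw⟩ := exists_prime_orderOf_dvd_card' (G := center (P : Subgroup G)) 2 (by
    obtain ⟨k, hk, hk'⟩ :=
      (P.2.to_subgroup (center _)).nontrivial_iff_card.mp P.2.center_nontrivial
    rw [hk']; exact dvd_pow_self 2 hk.ne')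
  have hw' : orderOf ((w : (P : Subgroup G)) : G) = 2 := by
    rw [Subgroup.orderOf_coe, Subgroup.orderOf_coe]; exact hw
  have hI : Inv2 ((w : (P : Subgroup G)) : G) :=
    ⟨fun e => by simp [e] at hw', by
      have := pow_orderOf_eq_one ((w : (P : Subgroup G)) : G)
      rwa [hw', pow_two] at this⟩
  have hc : ∀ z ∈ (P : Subgroup G), Commute z ((w : (P : Subgroup G)) : G) := fun z hz =>
    congrArg Subtype.val (mem_center_iff.mp w.2 ⟨z, hz⟩)
  exact hS.ab _ hI x y (hc x hx) (hc y hy)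

theorem Sys.mem_ker2 {P : Sylow 2 G} {t g : G} (ht : Inv2 t) (htP : t ∈ (P : Subgroup G)) :
    g ∈ ker2 P ↔ Commute g t :=
  ⟨fun h => (mem_centralizer_iff.mp h t htP).symm, fun h => mem_centralizer_iff.mpr fun y hy =>
    (hS.ab t ht g y h (hS.sylow_comm P hy htP)).symm.eq⟩

omit hS [Finite G] in
theorem ker2_fix {P : Sylow 2 G} {x : G} (hx : x ∈ ker2 P) : x • P = P :=
  Sylow.smul_eq_iff_mem_normalizer.mpr (centralizer_le_normalizer _ hx)

omit hS [Finite G] in
theorem invol_mem_sylow {P : Sylow 2 G} {t : G} (ht : Inv2 t) (h : t • P = P) :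
    t ∈ (P : Subgroup G) := by
  have : Fact (Nat.Prime 2) := ⟨Nat.prime_two⟩
  have h2 : IsPGroup 2 (zpowers t) := IsPGroup.of_card (n := 1) (by
    rw [Nat.card_zpowers, pow_one]; exact inv2_orderOf ht)
  have := h2.inf_normalizer_sylow P
  rw [inf_eq_left.mpr (zpowers_le.mpr (Sylow.smul_eq_iff_mem_normalizer.mp h))] at this
  exact (this.le (mem_zpowers t)).2

omit hS in
theorem exists_sylow {t : G} (ht : Inv2 t) : ∃ P : Sylow 2 G, t ∈ (P : Subgroup G) := by
  have : Fact (Nat.Prime 2) := ⟨Nat.prime_two⟩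
  obtain ⟨P, hP⟩ := (IsPGroup.of_card (p := 2) (n := 1) (G := zpowers t) (by
    rw [Nat.card_zpowers, pow_one]; exact inv2_orderOf ht)).exists_le_sylow
  exact ⟨P, hP (mem_zpowers t)⟩

theorem Sys.sylow_unique {P Q : Sylow 2 G} {t : G} (ht : Inv2 t) (hP : t ∈ (P : Subgroup G))
    (hQ : t ∈ (Q : Subgroup G)) : P = Q := by
  have : Fact (Nat.Prime 2) := ⟨Nat.prime_two⟩
  have hle : (Q : Subgroup G) ≤ normalizer ((P : Subgroup G) : Set G) := fun x hx =>
    centralizer_le_normalizer _ ((hS.mem_ker2 ht hP).mpr (hS.sylow_comm Q hx hQ))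
  have := Q.2.inf_normalizer_sylow P
  exact Sylow.ext (Q.3 P.2 (inf_eq_left.mp (this.symm.trans (inf_eq_left.mpr hle))))

theorem Sys.four_at (P : Sylow 2 G) :
    ∃ s t : G, s ∈ invAt G P ∧ t ∈ invAt G P ∧ s ≠ t := by
  obtain ⟨s, t, hs, ht, hst, hne⟩ := hS.four
  obtain ⟨Q, hQ⟩ := exists_sylow hs
  have h1 : s • Q = Q := ker2_fix ((hS.mem_ker2 hs hQ).mpr (Commute.refl s))
  have h2 : t • Q = Q := ker2_fix ((hS.mem_ker2 hs hQ).mpr hst.symm)
  have : Fact (Nat.Prime 2) := ⟨Nat.prime_two⟩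
  obtain ⟨g, hg⟩ := exists_smul_eq G Q P
  have hg' : g⁻¹ • P = Q := inv_smul_eq_iff.2 hg.symm
  refine ⟨g * s * g⁻¹, g * t * g⁻¹, ⟨hs.conj g, ?_⟩, ⟨ht.conj g, ?_⟩,
    fun e => hne (mul_left_cancel (mul_right_cancel e))⟩
  · rw [mul_smul, mul_smul, hg', h1, hg]
  · rw [mul_smul, mul_smul, hg', h2, hg]

/-- The configuration on the Sylow 2-subgroups. -/
theorem Sys.conf (hd : Disj G) : Conf (ker2 (G := G)) where
  fix P x hx := ker2_fix hx
  normal P g hg x hx := by
    have hg' := Sylow.smul_eq_iff_mem_normalizer.mp hg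
    refine mem_centralizer_iff.mpr fun y hy => ?_
    have h1 : g⁻¹ * y * g ∈ (P : Subgroup G) := by
      have := (mem_normalizer_iff.mp (inv_mem hg') y).mp hy
      rwa [inv_inv] at this
    have h2 := mem_centralizer_iff.mp hx _ h1
    calc y * (g * x * g⁻¹) = g * (g⁻¹ * y * g * x) * g⁻¹ := by group
      _ = g * x * g⁻¹ * y := by rw [h2]; group
  comm P x hx y hy := by
    obtain ⟨s, -, hs, -⟩ := hS.four_at P
    have hsP := invol_mem_sylow hs.1 hs.2
    exact hS.ab s hs.1 x y ((hS.mem_ker2 hs.1 hsP).mp hx) ((hS.mem_ker2 hs.1 hsP).mp hy)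
  invol_cent P t ht htP g hg := (hS.mem_ker2 ht (invol_mem_sylow ht htP)).mpr hg
  invol_fix t ht := by
    obtain ⟨P, hP⟩ := exists_sylow ht
    exact ⟨P, ker2_fix ((hS.mem_ker2 ht hP).mpr (Commute.refl t)),
      fun Q hQ => hS.sylow_unique ht (invol_mem_sylow ht hQ) hP⟩
  invol_exists := by obtain ⟨s, -, hs, -⟩ := hS.four; exact ⟨s, hs⟩
  trans P Q := by
    have : Fact (Nat.Prime 2) := ⟨Nat.prime_two⟩
    exact exists_smul_eq G P Q
  nontriv P := by
    obtain ⟨a, b, ha, hb, hab⟩ := hS.noncomm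
    by_contra h
    push Not at h
    obtain ⟨Q, hQ⟩ := exists_sylow ha
    obtain ⟨R, hR⟩ := exists_sylow hb
    rw [h Q] at hQ
    rw [h R] at hR
    exact hab (hS.sylow_comm P hQ hR)
  disj := hd

/-- An element commuting with two involutions at different points is odd. -/
theorem Sys.odd_orderOf_of_commute {x s t : G} (hs : Inv2 s) (ht : Inv2 t) (hst : ¬ Commute s t)
    (hxs : Commute x s) (hxt : Commute x t) : Odd (orderOf x) := by
  rw [← Nat.not_even_iff_odd]
  intro h
  obtain ⟨m, hm⟩ := h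
  have hpos := orderOf_pos x
  have hz : Inv2 (x ^ m) := ⟨pow_ne_one_of_lt_orderOf (by omega) (by omega),
    by rw [← pow_add, ← hm, pow_orderOf_eq_one]⟩
  exact hst (hS.ab _ hz s t (hxs.pow_left m).symm (hxt.pow_left m).symm)

theorem Sys.Zi_odd {z : G} (hz : z ∈ Zi G) : Odd (orderOf z) := by
  obtain ⟨a, b, ha, hb, hab⟩ := hS.noncomm
  exact hS.odd_orderOf_of_commute ha hb hab (mem_Zi.mp hz a ha) (mem_Zi.mp hz b hb)

theorem Sys.Zi_comm {x y : G} (hx : x ∈ Zi G) (hy : y ∈ Zi G) : Commute x y := by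
  obtain ⟨s, -, hs, -⟩ := hS.four
  exact hS.ab s hs x y (mem_Zi.mp hx s hs) (mem_Zi.mp hy s hs)

/-- Commuting modulo `Zi G` with an involution is commuting with it. -/
theorem Sys.commute_of_mk {g t : G} (ht : Inv2 t)
    (h : Commute (QuotientGroup.mk' (Zi G) g) (QuotientGroup.mk' (Zi G) t)) : Commute g t := by
  set z := g * t * g⁻¹ * t with hz
  have hzm : z ∈ Zi G := by
    rw [← QuotientGroup.eq_one_iff, ← QuotientGroup.mk'_apply, hz]
    simp only [map_mul, map_inv]
    rw [h.eq, mul_inv_cancel_right, ← map_mul, ht.2, map_one]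
  have hzt : g * t * g⁻¹ = z * t := by rw [hz, mul_assoc (g * t * g⁻¹), ht.2, mul_one]
  have h1 : z * t * (z * t) = 1 := by rw [← hzt]; exact (ht.conj g).2
  have hcz := mem_Zi.mp hzm t ht
  rw [show z * t * (z * t) = z * (t * z) * t by group, ← hcz.eq,
    show z * (z * t) * t = (z * z) * (t * t) by group, ht.2, mul_one] at h1
  rw [odd_ne_inv2 (hS.Zi_odd hzm) h1, one_mul] at hzt
  show g * t = t * g
  rw [← mul_inv_eq_iff_eq_mul]; exact hzt

/-- Involutions of the quotient lift to involutions. -/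
theorem Sys.lift_invol {τ : G ⧸ Zi G} (hτ : Inv2 τ) :
    ∃ t : G, Inv2 t ∧ QuotientGroup.mk' (Zi G) t = τ := by
  obtain ⟨y, rfl⟩ := QuotientGroup.mk'_surjective (Zi G) τ
  have hy : y * y ∈ Zi G := by
    rw [← QuotientGroup.eq_one_iff, ← QuotientGroup.mk'_apply, map_mul]; exact hτ.2
  obtain ⟨i, hi⟩ := hS.Zi_odd hy
  refine ⟨y ^ (2 * i + 1), ⟨fun e => ?_, ?_⟩, ?_⟩
  · have := congrArg (QuotientGroup.mk' (Zi G)) e
    rw [map_pow, pow_succ, pow_mul, pow_two, hτ.2, one_pow, one_mul, map_one] at this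
    exact hτ.1 this
  · rw [← (Commute.refl y).mul_pow, ← hi, pow_orderOf_eq_one]
  · rw [map_pow, pow_succ, pow_mul, pow_two, hτ.2, one_pow, one_mul]

theorem Sys.mk_invol {t : G} (ht : Inv2 t) : Inv2 (QuotientGroup.mk' (Zi G) t) := by
  refine ⟨fun e => ?_, by rw [← map_mul, ht.2, map_one]⟩
  rw [QuotientGroup.mk'_apply, QuotientGroup.eq_one_iff] at e
  exact ht.1 (odd_ne_inv2 (hS.Zi_odd e) ht.2)

/-- The quotient by the centraliser of the involutions is again a system. -/
theorem Sys.quot : Sys (G ⧸ Zi G) where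
  ab τ hτ x y hx hy := by
    obtain ⟨t, ht, rfl⟩ := hS.lift_invol hτ
    obtain ⟨a, rfl⟩ := QuotientGroup.mk'_surjective (Zi G) x
    obtain ⟨b, rfl⟩ := QuotientGroup.mk'_surjective (Zi G) y
    exact (hS.ab t ht a b (hS.commute_of_mk ht hx) (hS.commute_of_mk ht hy)).map _
  four := by
    obtain ⟨s, t, hs, ht, hst, hne⟩ := hS.four
    refine ⟨_, _, hS.mk_invol hs, hS.mk_invol ht, hst.map _, fun e => hne ?_⟩
    have h1 : QuotientGroup.mk' (Zi G) (s * t) = 1 := by
      rw [map_mul, e, ← map_mul, ht.2, map_one]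
    rw [QuotientGroup.mk'_apply, QuotientGroup.eq_one_iff] at h1
    have h2 := odd_ne_inv2 (hS.Zi_odd h1) (by
      rw [show s * t * (s * t) = s * (t * s) * t by group, ← hst.eq,
        show s * (s * t) * t = (s * s) * (t * t) by group, hs.2, ht.2, mul_one])
    rw [← ht.inv_eq]; exact eq_inv_of_mul_eq_one_left h2
  noncomm := by
    obtain ⟨s, t, hs, ht, hst⟩ := hS.noncomm
    exact ⟨_, _, hS.mk_invol hs, hS.mk_invol ht, fun h => hst (hS.commute_of_mk ht h)⟩

theorem Sys.Zi_quot : Zi (G ⧸ Zi G) = ⊥ := by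
  refine (Subgroup.eq_bot_iff_forall _).mpr fun x hx => ?_
  obtain ⟨a, rfl⟩ := QuotientGroup.mk'_surjective (Zi G) x
  rw [QuotientGroup.mk'_apply, QuotientGroup.eq_one_iff]
  exact mem_Zi.mpr fun t ht => hS.commute_of_mk ht (mem_Zi.mp hx _ (hS.mk_invol ht))

theorem Sys.quot_simple (hd : Disj (G ⧸ Zi G)) : IsSimpleGroup (G ⧸ Zi G) :=
  (hS.quot.conf hd).isSimpleGroup hS.quot.four_at

/-- The involutions generate modulo `Zi G`. -/
theorem Sys.closure_sup (hd : Disj (G ⧸ Zi G)) : closure {t : G | Inv2 t} ⊔ Zi G = ⊤ := by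
  have := hS.quot_simple hd
  have hn : (closure {t : G | Inv2 t}).Normal := by
    refine ⟨fun n hn g => ?_⟩
    induction hn using Subgroup.closure_induction with
    | mem x hx => exact subset_closure (Inv2.conj hx g)
    | one => simp
    | mul x y _ _ hx hy =>
      rw [show g * (x * y) * g⁻¹ = g * x * g⁻¹ * (g * y * g⁻¹) by group]; exact mul_mem hx hy
    | inv x _ hx => rw [show g * x⁻¹ * g⁻¹ = (g * x * g⁻¹)⁻¹ by group]; exact inv_mem hx
  have hmap : (closure {t : G | Inv2 t}).map (QuotientGroup.mk' (Zi G)) = ⊤ := by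
    refine ((hn.map _ (QuotientGroup.mk'_surjective _)).eq_bot_or_eq_top).resolve_left fun h => ?_
    obtain ⟨s, -, hs, -⟩ := hS.four
    exact (hS.mk_invol hs).1 (mem_bot.mp (h ▸ mem_map_of_mem _ (subset_closure hs)))
  have := congrArg (Subgroup.comap (QuotientGroup.mk' (Zi G))) hmap
  rwa [comap_map_eq, QuotientGroup.ker_mk', comap_top] at this

theorem Sys.Zi_le_center (hd : Disj (G ⧸ Zi G)) {z : G} (hz : z ∈ Zi G) (g : G) :
    Commute g z := by
  have hle : closure {t : G | Inv2 t} ⊔ Zi G ≤ centralizer ({z} : Set G) :=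
    sup_le ((closure_le _).mpr fun t ht =>
      mem_centralizer_singleton_iff.mpr (mem_Zi.mp hz t ht).symm.eq)
      fun y hy => mem_centralizer_singleton_iff.mpr (hS.Zi_comm hy hz).eq
  rw [hS.closure_sup hd] at hle
  exact mem_centralizer_singleton_iff.mp (hle (mem_top g))

/-- Odd-order elements centralising an involution centralise all of them. -/
theorem Sys.odd_mem_Zi (hd : Disj (G ⧸ Zi G)) {y t : G} (hy : Odd (orderOf y)) (ht : Inv2 t)
    (h : Commute y t) : y ∈ Zi G := by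
  have hC := hS.quot.conf hd
  obtain ⟨P, hP, -⟩ := hC.invol_fix _ (hS.mk_invol ht)
  have h1 := (hC.kernel hS.quot.four_at P).1 _
    (hC.invol_cent P _ (hS.mk_invol ht) hP _ (h.map (QuotientGroup.mk' (Zi G))))
  rw [← map_mul, QuotientGroup.mk'_apply, QuotientGroup.eq_one_iff] at h1
  exact odd_mem_of_sq_mem hy h1

/-- A subgroup of odd order is small modulo `Zi G`. -/
theorem Sys.odd_lt (hd : Disj (G ⧸ Zi G)) {X : Subgroup G} (hX : Odd (Nat.card X)) :
    Nat.card X < Nat.card {t : G // Inv2 t} * Nat.card (X ⊓ Zi G : Subgroup G) := by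
  classical
  have hC := hS.quot.conf hd
  set f := QuotientGroup.mk' (Zi G) with hf
  have hXbar : Odd (Nat.card (X.map f)) := hX.of_dvd_nat (card_map_dvd X f)
  have hlt := hC.odd_lt hS.quot.four_at hXbar
  have hle : Nat.card {τ : G ⧸ Zi G // Inv2 τ} ≤ Nat.card {t : G // Inv2 t} :=
    Nat.card_le_card_of_injective
      (fun τ => ⟨(hS.lift_invol τ.2).choose, (hS.lift_invol τ.2).choose_spec.1⟩) fun τ σ e => by
      refine Subtype.ext ?_
      rw [← (hS.lift_invol τ.2).choose_spec.2, ← (hS.lift_invol σ.2).choose_spec.2,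
        show (hS.lift_invol τ.2).choose = (hS.lift_invol σ.2).choose from congrArg Subtype.val e]
  have hsplit : Nat.card X = Nat.card (X.map f) * Nat.card (X ⊓ Zi G : Subgroup G) := by
    let φ := f.comp X.subtype
    have h1 := (φ.ker).index_mul_card
    rw [index_ker φ] at h1
    have h2 : φ.range = X.map f := by
      rw [MonoidHom.range_eq_map, ← Subgroup.map_map, ← MonoidHom.range_eq_map,
        Subgroup.range_subtype]
    have h3 : Nat.card φ.ker = Nat.card (X ⊓ Zi G : Subgroup G) :=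
      Nat.card_congr
        { toFun := fun y => ⟨((y : X) : G), (y : X).2, (QuotientGroup.eq_one_iff _).mp y.2⟩
          invFun := fun y => ⟨⟨y, y.2.1⟩, (QuotientGroup.eq_one_iff _).mpr y.2.2⟩
          left_inv := fun y => rfl
          right_inv := fun y => rfl }
    rw [h2, h3] at h1
    exact h1.symm
  rw [hsplit]
  exact Nat.mul_lt_mul_of_pos_right (lt_of_lt_of_le hlt hle) Nat.card_pos

end Cfsg.Agent.InvAb
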