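import Cfsg.Agent.Fg24.CTGroups.Counting

/-!
# Counting in groups with abelian involution centralisers

A variant of the configuration of `Fg24.CT.Pts`: each point `p` carries an abelian subgroup `A p`
which is only assumed to be the centraliser of each *involution* fixing `p`, and two of these
subgroups at distinct points meet trivially. We derive that a two-point stabiliser meets `A p`
trivially, that centralisers of its non-trivial elements are inverted by the swapping involutions,
and that the subgroups `A p` are regular on the other points.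
-/

set_option autoImplicit false

open Subgroup MulAction
open Cfsg.Agent.Fg24.CT (Inv2 invAt swaps pair mem_pair pair_comm smul_of_swap)

namespace Cfsg.Agent.InvAb

variable {G Ω : Type*} [Group G] [MulAction G Ω]

/-- The standing configuration. -/
structure Conf (A : Ω → Subgroup G) : Prop where
  fix : ∀ p, ∀ x ∈ A p, x • p = p
  normal : ∀ p (g : G), g • p = p → ∀ x ∈ A p, g * x * g⁻¹ ∈ A p
  comm : ∀ p, ∀ x ∈ A p, ∀ y ∈ A p, Commute x y
  invol_cent : ∀ p (t : G), Inv2 t → t • p = p → ∀ g : G, Commute g t → g ∈ A p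
  invol_fix : ∀ t : G, Inv2 t → ∃! p : Ω, t • p = p
  invol_exists : ∃ t : G, Inv2 t
  trans : ∀ p q : Ω, ∃ g : G, g • p = q
  nontriv : ∀ p : Ω, ∃ q : Ω, q ≠ p
  disj : ∀ p q : Ω, p ≠ q → ∀ x ∈ A p, x ∈ A q → x = 1

/-- An involution on a finite group without non-trivial fixed points is inversion. -/
theorem inverts_of_fixedPointFree [Finite G] {C : Subgroup G} {w : G} (hw : w * w = 1)
    (hmem : ∀ g ∈ C, w * g * w ∈ C) (hfix : ∀ g ∈ C, w * g * w = g → g = 1) {g : G} (hg : g ∈ C) :
    w * g * w = g⁻¹ := by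
  let f : C → C := fun x => ⟨(x : G)⁻¹ * (w * x * w), mul_mem (inv_mem x.2) (hmem _ x.2)⟩
  have hinj : Function.Injective f := by
    intro x y e
    have e' : (x : G)⁻¹ * (w * x * w) = (y : G)⁻¹ * (w * y * w) := congrArg Subtype.val e
    have h1 : w * ((y : G) * (x : G)⁻¹) * w = (y : G) * (x : G)⁻¹ := by
      have h2 : w * x * w = x * ((y : G)⁻¹ * (w * y * w)) := by rw [← e']; group
      have h3 : (w * y * w) * (w * x * w)⁻¹ = y * (x : G)⁻¹ := by rw [h2]; group
      calc w * ((y : G) * (x : G)⁻¹) * w = w * y * (w * w) * ((x : G)⁻¹ * w) := by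
            rw [hw]; group
        _ = (w * y * w) * (w * x * w)⁻¹ := by
            rw [mul_inv_rev, mul_inv_rev, inv_eq_of_mul_eq_one_right hw]; group
        _ = _ := h3
    exact Subtype.ext (mul_inv_eq_one.mp (hfix _ (mul_mem y.2 (inv_mem x.2)) h1)).symm
  obtain ⟨x, hx⟩ := Finite.injective_iff_surjective.mp hinj ⟨g, hg⟩
  have e : (x : G)⁻¹ * (w * x * w) = g := congrArg Subtype.val hx
  rw [← e, mul_inv_rev, inv_inv, mul_inv_rev, mul_inv_rev, inv_eq_of_mul_eq_one_right hw]
  calc w * ((x : G)⁻¹ * (w * x * w)) * w = w * (x : G)⁻¹ * w * x * (w * w) := by group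
    _ = _ := by rw [hw, mul_one]; group

variable {A : Ω → Subgroup G} (hP : Conf A)
include hP

theorem Conf.invol_mem {p : Ω} {t : G} (ht : Inv2 t) (htp : t • p = p) : t ∈ A p :=
  hP.invol_cent p t ht htp t (Commute.refl t)

theorem Conf.fix_unique {t : G} (ht : Inv2 t) {p q : Ω} (hp : t • p = p) (hq : t • q = q) :
    p = q := (hP.invol_fix t ht).unique hp hq

/-- What commutes with an involution fixes its point. -/
theorem Conf.fix_of_commute {t g : G} (ht : Inv2 t) {p : Ω} (hp : t • p = p) (h : Commute g t) :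
    g • p = p :=
  hP.fix_unique ht (by rw [smul_smul, ← h.eq, mul_smul, hp]) hp

theorem Conf.invAt_nonempty (p : Ω) : ∃ t : G, t ∈ invAt G p := by
  obtain ⟨t, ht⟩ := hP.invol_exists
  obtain ⟨q, hq, -⟩ := hP.invol_fix t ht
  obtain ⟨g, hg⟩ := hP.trans q p
  exact ⟨g * t * g⁻¹, ht.conj g, by rw [mul_smul, mul_smul, inv_smul_eq_iff.2 hg.symm, hq, hg]⟩

theorem Conf.card_invAt_eq (p q : Ω) : Nat.card (invAt G p) = Nat.card (invAt G q) := by
  obtain ⟨g, hg⟩ := hP.trans p q
  have hg' : g⁻¹ • q = p := inv_smul_eq_iff.2 hg.symm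
  refine Nat.card_congr ((MulAut.conj g).toEquiv.subtypeEquiv fun t => ⟨fun h => ?_, fun h => ?_⟩)
  · exact ⟨h.1.conj g, show (g * t * g⁻¹) • q = q by rw [mul_smul, mul_smul, hg', h.2, hg]⟩
  · have h1 : Inv2 (g⁻¹ * (g * t * g⁻¹) * g⁻¹⁻¹) := h.1.conj g⁻¹
    rw [show g⁻¹ * (g * t * g⁻¹) * g⁻¹⁻¹ = t by group] at h1
    refine ⟨h1, ?_⟩
    have h2 : (g * t * g⁻¹) • q = q := h.2
    rw [mul_smul, mul_smul, hg', ← eq_inv_smul_iff, hg'] at h2
    exact h2

/-- Involutions at distinct points are carried to one another by exactly one involution. -/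
theorem Conf.exists_swap [Finite G] {p q : Ω} (hpq : p ≠ q) {t s : G} (ht : t ∈ invAt G p)
    (hs : s ∈ invAt G q) : ∃ w : G, w ∈ swaps G p q ∧ w * t * w = s := by
  obtain ⟨⟨ht1, htp⟩, hs1, hsq⟩ := And.intro ht hs
  set c := t * s with hc
  have htct : t * c * t = c⁻¹ := by
    rw [hc, mul_inv_rev, hs1.inv_eq, ht1.inv_eq, ← mul_assoc t t s, ht1.2, one_mul]
  have hpow : ∀ i : ℕ, t * c ^ i * t = (c ^ i)⁻¹ := fun i => by
    have h := conj_pow (a := t) (b := c) (i := i)
    rw [ht1.inv_eq, htct, inv_pow] at h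
    exact h.symm
  rcases Nat.even_or_odd' (orderOf c) with ⟨m, hm | hm⟩
  · -- a central involution would fix both points
    exfalso
    have hpos := orderOf_pos c
    have hu1 : c ^ m ≠ 1 := pow_ne_one_of_lt_orderOf (by omega) (by omega)
    have hu2 : c ^ m * c ^ m = 1 := by rw [← pow_add, ← two_mul, ← hm, pow_orderOf_eq_one]
    have hut : Commute (c ^ m) t := by
      have h1 : t * c ^ m * t = c ^ m := by rw [hpow, inv_eq_of_mul_eq_one_right hu2]
      calc c ^ m * t = t * c ^ m * t * t := by rw [h1]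
        _ = t * c ^ m := by rw [mul_assoc (t * c ^ m) t t, ht1.2, mul_one]
    have hus : Commute (c ^ m) s := by
      have h1 : s = t * c := by rw [hc, ← mul_assoc, ht1.2, one_mul]
      rw [h1]
      exact hut.mul_right ((Commute.refl c).pow_left m)
    exact hpq (hP.fix_unique ⟨hu1, hu2⟩ (hP.fix_of_commute ht1 htp hut)
      (hP.fix_of_commute hs1 hsq hus))
  · set w := c ^ m * t with hw
    have hww : w * w = 1 := by
      rw [hw, show c ^ m * t * (c ^ m * t) = c ^ m * (t * c ^ m * t) by group, hpow, mul_inv_cancel]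
    have hwtw : w * t * w = s := by
      have h1 : (c ^ m * c ^ m) * c = 1 := by
        rw [← pow_add, ← pow_succ, ← two_mul, ← hm, pow_orderOf_eq_one]
      have h2 : c ^ m * c ^ m = c⁻¹ := eq_inv_of_mul_eq_one_left h1
      calc w * t * w = c ^ m * (t * t) * (c ^ m * t) := by rw [hw]; group
        _ = (c ^ m * c ^ m) * t := by rw [ht1.2]; group
        _ = s := by rw [h2, hc, mul_inv_rev, hs1.inv_eq, ht1.inv_eq, mul_assoc, ht1.2, mul_one]
    have hwt : w • p = q := by
      refine hP.fix_unique hs1 ?_ hsq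
      rw [← hwtw, smul_smul, mul_assoc (w * t) w w, hww, mul_one, mul_smul, htp]
    refine ⟨w, ⟨⟨fun e => hpq ?_, hww⟩, hwt⟩, hwtw⟩
    rw [← hwt, e, one_smul]

theorem Conf.conj_mem {p : Ω} {x : G} (hx : x ∈ A p) (g : G) : g * x * g⁻¹ ∈ A (g • p) := by
  obtain ⟨t, ht, htp⟩ := hP.invAt_nonempty p
  refine hP.invol_cent (g • p) _ (ht.conj g) ?_ _ ?_
  · rw [mul_smul, mul_smul, inv_smul_smul, htp]
  · have := (hP.comm p x hx t (hP.invol_mem ht htp)).map (MulAut.conj g).toMonoidHom
    simpa using this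

theorem Conf.conj_swap_mem' {p q : Ω} {x w : G} (hx : x ∈ A p) (hw : w ∈ swaps G p q) :
    w * x * w ∈ A q := by
  have := hP.conj_mem hx w
  rwa [hw.1.inv_eq, hw.2] at this

/-- What commutes with a non-trivial element of `A p` fixes `p`. -/
theorem Conf.cent_fix {p : Ω} {x g : G} (hx : x ∈ A p) (hx1 : x ≠ 1) (h : Commute g x) :
    g • p = p := by
  by_contra hne
  have h1 : g * x * g⁻¹ = x := by rw [h.eq, mul_inv_cancel_right]
  exact hx1 (hP.disj _ _ hne x (h1 ▸ hP.conj_mem hx g) hx)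

theorem Conf.swap_unique {p q : Ω} (hpq : p ≠ q) {t s w v : G} (ht : t ∈ invAt G p)
    (hs : s ∈ invAt G q) (hw : Inv2 w) (hv : Inv2 v) (ew : w * t * w = s) (ev : v * t * v = s) :
    w = v := by
  by_contra hne
  set c := v * w with hc
  have hcne : c ≠ 1 := fun e => hne (by rw [← hv.inv_eq]; exact eq_inv_of_mul_eq_one_right e)
  have hct : Commute c t := by
    have h1 : c * t * (w * v) = t := by
      calc c * t * (w * v) = v * (w * t * w) * v := by rw [hc]; group
        _ = v * (v * t * v) * v := by rw [ew, ev]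
        _ = (v * v) * t * (v * v) := by group
        _ = t := by rw [hv.2]; group
    calc c * t = c * t * (w * v) * (v * w) := by
          rw [show c * t * (w * v) * (v * w) = c * t * (w * (v * v) * w) by group, hv.2, mul_one,
            hw.2, mul_one]
      _ = t * c := by rw [h1]
  have hcA : c ∈ A p := hP.invol_cent p t ht.1 ht.2 c hct
  have hwc : w * c * w = c⁻¹ := by
    rw [hc, mul_inv_rev, hv.inv_eq, hw.inv_eq, mul_assoc w, mul_assoc v, hw.2, mul_one]
  have h2 : Commute s c⁻¹ := by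
    show s * c⁻¹ = c⁻¹ * s
    rw [← ew, ← hwc]
    calc w * t * w * (w * c * w) = w * t * (w * w) * c * w := by group
      _ = w * (t * c) * w := by rw [hw.2]; group
      _ = w * (c * t) * w := by rw [hct.eq]
      _ = w * c * (w * w) * t * w := by rw [hw.2]; group
      _ = w * c * w * (w * t * w) := by group
  exact hpq (hP.fix_unique hs.1 (hP.cent_fix (inv_mem hcA) (inv_ne_one.mpr hcne) h2) hs.2)

theorem Conf.conj_swap_mem {p q : Ω} {t w : G} (ht : t ∈ invAt G p) (hw : w ∈ swaps G p q) :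
    w * t * w ∈ invAt G q := by
  refine ⟨?_, ?_⟩
  · have := ht.1.conj w
    rwa [hw.1.inv_eq] at this
  · rw [mul_smul, mul_smul, smul_of_swap hw, ht.2, hw.2]

theorem Conf.card_swaps [Finite G] {p q : Ω} (hpq : p ≠ q) :
    Nat.card (swaps G p q) = Nat.card (invAt G q) := by
  obtain ⟨t, ht⟩ := hP.invAt_nonempty p
  refine Nat.card_congr (Equiv.ofBijective (fun w => ⟨(w : G) * t * w, hP.conj_swap_mem ht w.2⟩)
    ⟨fun w v e => Subtype.ext ?_, fun s => ?_⟩)
  · exact hP.swap_unique hpq ht (hP.conj_swap_mem ht v.2) w.2.1 v.2.1 (congrArg Subtype.val e) rfl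
  · obtain ⟨w, hw, e⟩ := hP.exists_swap hpq ht s.2
    exact ⟨⟨w, hw⟩, Subtype.ext e⟩

theorem Conf.exists_swap' [Finite G] {p q : Ω} (hpq : p ≠ q) : ∃ w : G, w ∈ swaps G p q := by
  obtain ⟨t, ht⟩ := hP.invAt_nonempty p
  obtain ⟨s, hs⟩ := hP.invAt_nonempty q
  obtain ⟨w, hw, -⟩ := hP.exists_swap hpq ht hs
  exact ⟨w, hw⟩

theorem Conf.conj_swap_pair {p q : Ω} {x w : G} (hx : x ∈ pair G p q) (hw : w ∈ swaps G p q) :
    w * x * w ∈ pair G p q :=
  ⟨show (w * x * w) • p = p by rw [mul_smul, mul_smul, hw.2, hx.2, smul_of_swap hw],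
    show (w * x * w) • q = q by rw [mul_smul, mul_smul, smul_of_swap hw, hx.1, hw.2]⟩

/-- The two-point stabiliser meets `A p` trivially. -/
theorem Conf.pair_inf [Finite G] {p q : Ω} (hpq : p ≠ q) {d : G} (hd : d ∈ pair G p q)
    (hdA : d ∈ A p) : d = 1 := by
  classical
  by_contra hd1
  let E : Subgroup G := A p ⊓ pair G p q
  obtain ⟨u, hu⟩ := hP.exists_swap' hpq
  obtain ⟨t, ht⟩ := hP.invAt_nonempty q
  have hE : ∀ x ∈ E, ∀ w ∈ swaps G p q, w * x * w ∈ A q ∧ w * x * w ∈ pair G p q :=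
    fun x hx w hw => ⟨hP.conj_swap_mem' hx.1 hw, hP.conj_swap_pair hx.2 hw⟩
  have hback : ∀ y : G, y ∈ A q → y ∈ pair G p q → u * y * u ∈ E := fun y hy hy' =>
    ⟨hP.conj_swap_mem' hy (show u ∈ swaps G q p from ⟨hu.1, smul_of_swap hu⟩),
      hP.conj_swap_pair hy' hu⟩
  -- products which are fixed by a swap
  have hprod : ∀ x ∈ E, ∀ w ∈ swaps G p q, Commute (x * (w * x * w)) w := by
    intro x hx w hw
    obtain ⟨h1, h2⟩ := hE x hx w hw
    set y := w * x * w with hy
    have hxy : Commute x y := by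
      have hc : x * y * x⁻¹ * y⁻¹ = 1 := by
        refine hP.disj p q hpq _ ?_ ?_
        · rw [show x * y * x⁻¹ * y⁻¹ = x * (y * x⁻¹ * y⁻¹) by group]
          exact mul_mem hx.1 (hP.normal p y h2.1 _ (inv_mem hx.1))
        · exact mul_mem (hP.normal q x hx.2.2 _ h1) (inv_mem h1)
      exact mul_inv_eq_iff_eq_mul.mp (mul_inv_eq_one.mp hc)
    have hww := hw.1.2
    show x * y * w = w * (x * y)
    rw [hxy.eq, hy]
    calc w * x * w * x * w = w * x * (w * x * w) := by group
      _ = w * (x * (w * x * w)) := by group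
      _ = _ := by rw [← hy, hxy.eq]
  -- distinct swaps fix distinct points
  let r : swaps G p q → Ω := fun w => (hP.invol_fix w w.2.1).choose
  have hr : ∀ w : swaps G p q, (w : G) • r w = r w := fun w =>
    (hP.invol_fix w w.2.1).choose_spec.1
  have hrp : ∀ w : swaps G p q, r w ≠ p := fun w e => hpq (by
    have := hr w; rw [e, w.2.2] at this; exact this.symm)
  have hrinj : Function.Injective r := by
    intro w v e
    by_contra hne
    have hwA : (w : G) ∈ A (r w) := hP.invol_mem w.2.1 (hr w)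
    have hvA : (v : G) ∈ A (r w) := hP.invol_mem v.2.1 (e.symm ▸ hr v)
    have hc : Inv2 ((w : G) * v) := by
      refine ⟨fun e1 => hne (Subtype.ext ?_), ?_⟩
      · rw [← w.2.1.inv_eq, inv_eq_of_mul_eq_one_right e1]
      · rw [show (w : G) * v * (w * v) = w * (v * w) * v by group,
          (hP.comm _ _ hvA _ hwA).eq, show (w : G) * (w * v) * v = (w * w) * (v * v) by group,
          w.2.1.2, v.2.1.2, mul_one]
    refine hrp w (hP.fix_unique hc (hP.fix _ _ (mul_mem hwA hvA)) ?_)
    rw [mul_smul, v.2.2, smul_of_swap w.2]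
  let Φ : Option (Option (swaps G p q)) × {x : E // x ≠ 1} → {z : E × E // z ≠ 1} :=
    fun z => ⟨match z.1 with
      | none => (z.2.1, 1)
      | some none => (1, z.2.1)
      | some (some w) => (z.2.1, ⟨_, hback _ (hE _ z.2.1.2 w w.2).1 (hE _ z.2.1.2 w w.2).2⟩), by
      rcases z with ⟨_ | _ | w, x⟩ <;> simp only [ne_eq, Prod.mk_eq_one, not_and] <;>
        first
          | exact fun h => absurd h x.2
          | exact fun _ => x.2⟩
  have hzero : ∀ (w : swaps G p q) (x : G), u * ((w : G) * x * w) * u = 1 → x = 1 := by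
    intro w x h
    calc x = (w : G) * u * (u * ((w : G) * x * w) * u) * (u * w) := by
          rw [show (w : G) * u * (u * ((w : G) * x * w) * u) * (u * w)
            = w * (u * u) * w * x * w * (u * u) * w by group, hu.1.2, mul_one, mul_one, w.2.1.2,
            one_mul, mul_assoc, w.2.1.2, mul_one]
      _ = 1 := by
          rw [h, mul_one, show (w : G) * u * (u * w) = w * (u * u) * w by group, hu.1.2, mul_one,
            w.2.1.2]
  have hΦ : Function.Injective Φ := by
    rintro ⟨a, ⟨⟨x, hx⟩, hx1⟩⟩ ⟨b, ⟨⟨y, hy⟩, hy1⟩⟩ e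
    have hxne : x ≠ 1 := fun h => hx1 (Subtype.ext h)
    have hyne : y ≠ 1 := fun h => hy1 (Subtype.ext h)
    have e' := congrArg Subtype.val e
    simp only [Φ] at e'
    rcases a with _ | _ | w <;> rcases b with _ | _ | v <;>
      simp only [Prod.mk.injEq, Subtype.ext_iff, OneMemClass.coe_one] at e'
    · obtain ⟨rfl, -⟩ := e'; rfl
    · exact absurd e'.1 hxne
    · exact absurd (hzero v y e'.2.symm) hyne
    · exact absurd e'.1.symm hyne
    · obtain ⟨-, rfl⟩ := e'; rfl
    · exact absurd e'.1.symm hyne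
    · exact absurd (hzero w x e'.2) hxne
    · exact absurd e'.1 hxne
    · obtain ⟨rfl, e2⟩ := e'
      have e3 : (w : G) * x * w = (v : G) * x * v :=
        mul_left_cancel (mul_right_cancel e2)
      obtain rfl : w = v := by
        by_contra hne
        refine hxne (hP.disj p q hpq x hx.1 ?_)
        have h1 : x * ((w : G) * x * w) = 1 := hP.disj _ _ (fun h => hne (hrinj h)) _
          (hP.invol_cent _ _ w.2.1 (hr w) _ (hprod x hx w w.2))
          (e3 ▸ hP.invol_cent _ _ v.2.1 (hr v) _ (hprod x hx v v.2))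
        rw [eq_inv_of_mul_eq_one_left h1]
        exact inv_mem (hE x hx w w.2).1
      rfl
  have hle : Nat.card E ≤ Nat.card (swaps G p q) := by
    rw [hP.card_swaps hpq]
    refine Nat.card_le_card_of_injective (fun x : E => (⟨(x : G) * t * (x : G)⁻¹, ht.1.conj _, ?_⟩ :
      invAt G q)) fun x y e => ?_
    · rw [mul_smul, mul_smul, inv_smul_eq_iff.2 x.2.2.2.symm, ht.2, x.2.2.2]
    · have e' : (x : G) * t * (x : G)⁻¹ = (y : G) * t * (y : G)⁻¹ := congrArg Subtype.val e
      refine Subtype.ext (eq_of_inv_mul_eq_one (hP.disj p q hpq _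
        (mul_mem (inv_mem y.2.1) x.2.1) (hP.invol_cent q t ht.1 ht.2 _ ?_))).symm
      show (y : G)⁻¹ * x * t = t * ((y : G)⁻¹ * x)
      calc (y : G)⁻¹ * x * t = (y : G)⁻¹ * (x * t * (x : G)⁻¹) * x := by group
        _ = _ := by rw [e']; group
  have h2 : 2 ≤ Nat.card E := by
    have : Nontrivial E := ⟨⟨⟨d, hdA, hd⟩, 1, fun e => hd1 (congrArg Subtype.val e)⟩⟩
    exact Finite.one_lt_card
  have hne1 : ∀ (α : Type _) [One α] [Finite α], Nat.card {z : α // z ≠ 1} + 1 = Nat.card α :=
    fun α _ _ => by rw [← Finite.card_option]; exact Nat.card_congr (Equiv.optionSubtypeNe 1)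
  have hcard := Nat.card_le_card_of_injective Φ hΦ
  have e1 := hne1 E
  have e2 := hne1 (E × E)
  rw [Nat.card_prod, Finite.card_option, Finite.card_option] at hcard
  rw [Nat.card_prod] at e2
  nlinarith

theorem Conf.eq_one_of_commute_invol [Finite G] {p q : Ω} (hpq : p ≠ q) {d x : G}
    (hd : d ∈ pair G p q) (hx : x ∈ invAt G p) (h : Commute d x) : d = 1 :=
  hP.pair_inf hpq hd (hP.invol_cent p x hx.1 hx.2 d h)

theorem Conf.conj_mem_invAt {p q : Ω} {d t : G} (hd : d ∈ pair G p q) (ht : t ∈ invAt G p) :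
    d * t * d⁻¹ ∈ invAt G p :=
  ⟨ht.1.conj d, by rw [mul_smul, mul_smul, inv_smul_eq_iff.2 hd.1.symm, ht.2, hd.1]⟩

theorem Conf.conj_injective [Finite G] {p q : Ω} (hpq : p ≠ q) {x : G} (hx : x ∈ invAt G p) :
    Function.Injective fun d : pair G p q => (d : G) * x * (d : G)⁻¹ := by
  intro d e h
  simp only at h
  have hcomm : Commute ((e : G)⁻¹ * d) x := by
    show (e : G)⁻¹ * d * x = x * ((e : G)⁻¹ * d)
    calc (e : G)⁻¹ * d * x = (e : G)⁻¹ * (d * x * (d : G)⁻¹) * d := by group
      _ = (e : G)⁻¹ * (e * x * (e : G)⁻¹) * d := by rw [h]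
      _ = x * ((e : G)⁻¹ * d) := by group
  exact Subtype.ext (eq_of_inv_mul_eq_one
    (hP.eq_one_of_commute_invol hpq (mul_mem (inv_mem e.2) d.2) hx hcomm)).symm

theorem Conf.swap_mul_mem {p q : Ω} {w u : G} (hw : w ∈ swaps G p q) (hu : u ∈ swaps G p q) :
    w * u ∈ pair G p q :=
  ⟨show (w * u) • p = p by rw [mul_smul, hu.2, smul_of_swap hw],
    show (w * u) • q = q by rw [mul_smul, smul_of_swap hu, hw.2]⟩

/-- The two-point stabiliser has as many elements as there are involutions at a point. -/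
theorem Conf.card_pair [Finite G] {p q : Ω} (hpq : p ≠ q) :
    Nat.card (pair G p q) = Nat.card (invAt G p) := by
  obtain ⟨t, ht⟩ := hP.invAt_nonempty p
  refine le_antisymm (Nat.card_le_card_of_injective
    (fun d : pair G p q => (⟨_, hP.conj_mem_invAt d.2 ht⟩ : invAt G p)) fun d e h =>
      hP.conj_injective hpq ht (congrArg Subtype.val h)) ?_
  rw [hP.card_invAt_eq p q, ← hP.card_swaps hpq]
  obtain ⟨u, hu⟩ := hP.exists_swap' hpq
  exact Nat.card_le_card_of_injective
    (fun w : swaps G p q => (⟨_, hP.swap_mul_mem w.2 hu⟩ : pair G p q)) fun w v h =>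
      Subtype.ext (mul_right_cancel (congrArg Subtype.val h))

theorem Conf.pair_inverted [Finite G] {p q : Ω} (hpq : p ≠ q) {u : G} (hu : u ∈ swaps G p q)
    {d : G} (hd : d ∈ pair G p q) : u * d * u = d⁻¹ := by
  have hbij : Function.Bijective
      (fun w : swaps G p q => (⟨_, hP.swap_mul_mem w.2 hu⟩ : pair G p q)) :=
    (Nat.bijective_iff_injective_and_card _).mpr ⟨fun w v h =>
      Subtype.ext (mul_right_cancel (congrArg Subtype.val h)), by
      rw [hP.card_swaps hpq, hP.card_pair hpq, hP.card_invAt_eq p q]⟩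
  obtain ⟨⟨w, hw⟩, he⟩ := hbij.2 ⟨d, hd⟩
  have he' : w * u = d := congrArg Subtype.val he
  rw [← he', mul_inv_rev, hw.1.inv_eq, hu.1.inv_eq, mul_assoc u, mul_assoc w, hu.1.2, mul_one]

theorem Conf.pair_commute [Finite G] {p q : Ω} (hpq : p ≠ q) {d e : G} (hd : d ∈ pair G p q)
    (he : e ∈ pair G p q) : Commute d e := by
  obtain ⟨u, hu⟩ := hP.exists_swap' hpq
  have h1 := hP.pair_inverted hpq hu (mul_mem hd he)
  rw [show u * (d * e) * u = (u * d * u) * (u * e * u) by
    rw [show u * d * u * (u * e * u) = u * d * (u * u) * e * u by group, hu.1.2]; group,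
    hP.pair_inverted hpq hu hd, hP.pair_inverted hpq hu he, ← mul_inv_rev] at h1
  exact (inv_injective h1).symm

theorem Conf.pair_transitive [Finite G] {p q : Ω} (hpq : p ≠ q) {t s : G} (ht : t ∈ invAt G p)
    (hs : s ∈ invAt G p) : ∃ d ∈ pair G p q, d * t * d⁻¹ = s := by
  have hbij : Function.Bijective
      (fun d : pair G p q => (⟨_, hP.conj_mem_invAt d.2 ht⟩ : invAt G p)) :=
    (Nat.bijective_iff_injective_and_card _).mpr ⟨fun d e h =>
      hP.conj_injective hpq ht (congrArg Subtype.val h),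
      hP.card_pair hpq⟩
  obtain ⟨d, hd⟩ := hbij.2 ⟨s, hs⟩
  exact ⟨d, d.2, congrArg Subtype.val hd⟩

theorem Conf.odd_pair [Finite G] {p q : Ω} (hpq : p ≠ q) : Odd (Nat.card (pair G p q)) := by
  by_contra h
  obtain ⟨d, hd⟩ := exists_prime_orderOf_dvd_card' (G := pair G p q) 2
    (even_iff_two_dvd.mp (Nat.not_odd_iff_even.mp h))
  have hd' : orderOf (d : G) = 2 := by rwa [Subgroup.orderOf_coe]
  have hinv : Inv2 (d : G) := ⟨fun e => by simp [e] at hd',
    by rw [← pow_two, ← hd', pow_orderOf_eq_one]⟩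
  exact hpq (hP.fix_unique hinv d.2.1 d.2.2)

theorem Conf.pair_sq_ne_one [Finite G] {p q : Ω} (hpq : p ≠ q) {d : G} (hd : d ∈ pair G p q)
    (hd1 : d ≠ 1) : d * d ≠ 1 := fun h => hpq (hP.fix_unique ⟨hd1, h⟩ hd.1 hd.2)

/-- `G_p = A_p D`. -/
theorem Conf.exists_eq_mul [Finite G] {p q : Ω} (hpq : p ≠ q) {h : G} (hh : h • p = p) :
    ∃ α ∈ A p, ∃ d ∈ pair G p q, h = α * d := by
  obtain ⟨t, ht⟩ := hP.invAt_nonempty p
  obtain ⟨d, hd, hdt⟩ := hP.pair_transitive hpq ht
    (s := h * t * h⁻¹) ⟨ht.1.conj h, by rw [mul_smul, mul_smul, inv_smul_eq_iff.2 hh.symm, ht.2, hh]⟩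
  refine ⟨h * d⁻¹, ?_, d, hd, by group⟩
  have hc : Commute (d⁻¹ * h) t := by
    show d⁻¹ * h * t = t * (d⁻¹ * h)
    calc d⁻¹ * h * t = d⁻¹ * (h * t * h⁻¹) * h := by group
      _ = d⁻¹ * (d * t * d⁻¹) * h := by rw [hdt]
      _ = t * (d⁻¹ * h) := by group
  have h1 := hP.normal p d hd.1 _ (hP.invol_cent p t ht.1 ht.2 _ hc)
  rwa [show d * (d⁻¹ * h) * d⁻¹ = h * d⁻¹ by group] at h1

/-- The centraliser of a non-trivial element of a two-point stabiliser has odd order and is
inverted by each involution inverting that element. -/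
theorem Conf.cent_inverted [Finite G] {p q : Ω} (hpq : p ≠ q) {d : G} (hd : d ∈ pair G p q)
    (hd1 : d ≠ 1) {w : G} (hw : Inv2 w) (hwd : w * d * w = d⁻¹) {g : G} (hg : Commute g d) :
    w * g * w = g⁻¹ := by
  refine inverts_of_fixedPointFree (C := centralizer ({d} : Set G)) hw.2 ?_ ?_
    (mem_centralizer_singleton_iff.mpr hg)
  · intro y hy
    have h1 := Commute.map (show Commute y d from mem_centralizer_singleton_iff.mp hy)
      (MulAut.conj w).toMonoidHom
    simp only [MulEquiv.coe_toMonoidHom, MulAut.conj_apply, hw.inv_eq, hwd] at h1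
    have h3 := h1.inv_right
    rw [inv_inv] at h3
    exact mem_centralizer_singleton_iff.mpr h3.eq
  · intro y hy hyw
    by_contra hy1
    obtain ⟨r, hr, -⟩ := hP.invol_fix w hw
    have hyw' : Commute y w := by
      show y * w = w * y
      nth_rewrite 1 [← hyw]
      rw [mul_assoc, hw.2, mul_one]
    have hyA : y ∈ A r := hP.invol_cent r w hw hr y hyw'
    have hdr : d • r = r :=
      hP.cent_fix hyA hy1 (show Commute y d from mem_centralizer_singleton_iff.mp hy).symm
    have hA : w * (d * w * d⁻¹) ∈ A r :=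
      mul_mem (hP.invol_mem hw hr) (hP.normal r d hdr _ (hP.invol_mem hw hr))
    rw [show w * (d * w * d⁻¹) = (w * d * w) * d⁻¹ by group, hwd] at hA
    obtain ⟨s, hsr, hs⟩ : ∃ s : Ω, r ≠ s ∧ d • s = s := by
      by_cases h : r = p
      · exact ⟨q, h ▸ hpq, hd.2⟩
      · exact ⟨p, h, hd.1⟩
    have hds : d ∈ pair G r s := mem_pair.mpr ⟨hdr, hs⟩
    have := hP.pair_inf hsr (mul_mem (inv_mem hds) (inv_mem hds)) hA
    exact hP.pair_sq_ne_one hpq hd hd1 (by rwa [← mul_inv_rev, inv_eq_one] at this)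

/-- `A p` is the centraliser of each of its non-trivial elements. -/
theorem Conf.self [Finite G] (p : Ω) (x : G) (hx : x ∈ A p) (hx1 : x ≠ 1) (g : G)
    (h : Commute g x) : g ∈ A p := by
  obtain ⟨q, hq⟩ := hP.nontriv p
  obtain ⟨α, hα, d, hd, rfl⟩ := hP.exists_eq_mul hq.symm (hP.cent_fix hx hx1 h)
  by_cases hd1 : d = 1
  · rwa [hd1, mul_one]
  exfalso
  have hdx : Commute x d := by
    have := ((hP.comm p α hα x hx).inv_left).mul_left h
    rw [inv_mul_cancel_left] at this
    exact this.symm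
  obtain ⟨w, hw⟩ := hP.exists_swap' hq.symm
  have h1 := hP.cent_inverted hq.symm hd hd1 hw.1 (hP.pair_inverted hq.symm hw hd) hdx
  have h2 := hP.conj_swap_mem' hx hw
  rw [h1] at h2
  exact hx1 (inv_eq_one.mp (hP.disj p q hq.symm _ (inv_mem hx) h2))

theorem Conf.eq_one_of_commute [Finite G] {p q : Ω} (hpq : p ≠ q) {d x : G} (hd : d ∈ pair G p q)
    (hx : x ∈ A p) (hx1 : x ≠ 1) (h : Commute d x) : d = 1 :=
  hP.pair_inf hpq hd (hP.self p x hx hx1 d h)

/-- The two-point stabiliser acts freely on the non-trivial elements of `A p`. -/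
theorem Conf.conj_injective' [Finite G] {p q : Ω} (hpq : p ≠ q) {x : G} (hx : x ∈ A p)
    (hx1 : x ≠ 1) : Function.Injective fun d : pair G p q => (d : G) * x * (d : G)⁻¹ := by
  intro d e h
  simp only at h
  have hcomm : Commute ((e : G)⁻¹ * d) x := by
    show (e : G)⁻¹ * d * x = x * ((e : G)⁻¹ * d)
    calc (e : G)⁻¹ * d * x = (e : G)⁻¹ * (d * x * (d : G)⁻¹) * d := by group
      _ = (e : G)⁻¹ * (e * x * (e : G)⁻¹) * d := by rw [h]
      _ = x * ((e : G)⁻¹ * d) := by group
  exact Subtype.ext (eq_of_inv_mul_eq_one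
    (hP.eq_one_of_commute hpq (mul_mem (inv_mem e.2) d.2) hx hx1 hcomm)).symm

theorem Conf.centralizer_pair [Finite G] {p q : Ω} (hpq : p ≠ q) {d g : G} (hd : d ∈ pair G p q)
    (hd1 : d ≠ 1) (hg : g • p = p) (hc : Commute g d) : g ∈ pair G p q := by
  obtain ⟨α, hα, e, he, rfl⟩ := hP.exists_eq_mul hpq hg
  have hαd : Commute α d := by
    have := hc.mul_left (hP.pair_commute hpq (inv_mem he) hd)
    rwa [mul_inv_cancel_right] at this
  by_cases hα1 : α = 1
  · rwa [hα1, one_mul]
  · exact absurd (hP.eq_one_of_commute hpq hd hα hα1 hαd.symm) hd1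

/-- Every element fixing `p` outside `A p` is conjugate under `A p` into the two-point
stabiliser. -/
theorem Conf.exists_conj [Finite G] {p q : Ω} (hpq : p ≠ q) {h : G} (hh : h • p = p)
    (hA : h ∉ A p) : ∃ α ∈ A p, ∃ d ∈ pair G p q, d ≠ 1 ∧ h = α * d * α⁻¹ := by
  obtain ⟨α₀, hα₀, d, hd, rfl⟩ := hP.exists_eq_mul hpq hh
  have hd1 : d ≠ 1 := fun e => hA (by rwa [e, mul_one])
  let f : A p → A p := fun α => ⟨α * (d * (α : G)⁻¹ * d⁻¹),
    mul_mem α.2 (hP.normal p d hd.1 _ (inv_mem α.2))⟩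
  have hinj : Function.Injective f := by
    intro α β e
    have e' : (α : G) * d * (α : G)⁻¹ = β * d * (β : G)⁻¹ := by
      have := congrArg (fun x : A p => (x : G) * d) e
      simp only [f] at this
      calc (α : G) * d * (α : G)⁻¹ = α * (d * (α : G)⁻¹ * d⁻¹) * d := by group
        _ = β * (d * (β : G)⁻¹ * d⁻¹) * d := this
        _ = β * d * (β : G)⁻¹ := by group
    have hc : Commute ((β : G)⁻¹ * α) d := by
      show (β : G)⁻¹ * α * d = d * ((β : G)⁻¹ * α)
      calc (β : G)⁻¹ * α * d = (β : G)⁻¹ * (α * d * (α : G)⁻¹) * α := by group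
        _ = (β : G)⁻¹ * (β * d * (β : G)⁻¹) * α := by rw [e']
        _ = d * ((β : G)⁻¹ * α) := by group
    by_contra hne
    refine hd1 (hP.eq_one_of_commute hpq hd (mul_mem (inv_mem β.2) α.2) (fun h1 => hne ?_) hc.symm)
    exact Subtype.ext (eq_of_inv_mul_eq_one h1).symm
  obtain ⟨α, hα⟩ := Finite.injective_iff_surjective.mp hinj ⟨α₀, hα₀⟩
  refine ⟨α, α.2, d, hd, hd1, ?_⟩
  have := congrArg Subtype.val hα
  simp only [f] at this
  rw [← this]
  group

/-- The two-point stabiliser is the stabiliser of any pair of its fixed points with the same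
first point. -/
theorem Conf.pair_eq [Finite G] {p q r : Ω} (hpq : p ≠ q) (hrp : r ≠ p) {d : G}
    (hd : d ∈ pair G p q) (hd1 : d ≠ 1) (hr : d • r = r) : pair G p r = pair G p q :=
  Subgroup.eq_of_le_of_card_ge
    (fun g hg => hP.centralizer_pair hpq hd hd1 hg.1
      (hP.pair_commute hrp.symm hg (mem_pair.mpr ⟨hd.1, hr⟩)))
    (by rw [hP.card_pair hpq, hP.card_pair hrp.symm])

theorem Conf.fixed_of_fixed [Finite G] {p q r : Ω} (hpq : p ≠ q) {d : G} (hd : d ∈ pair G p q)
    (hd1 : d ≠ 1) (hr : d • r = r) : ∀ e ∈ pair G p q, e • r = r := by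
  intro e he
  by_cases hrp : r = p
  · rw [hrp]; exact he.1
  · rw [← hP.pair_eq hpq hrp hd hd1 hr] at he
    exact he.2

/-- **A non-trivial two-point stabiliser fixes just two points.** -/
theorem Conf.fixed_eq [Finite G] [Finite Ω] {p q : Ω} (hpq : p ≠ q) {d : G} (hd : d ∈ pair G p q)
    (hd1 : d ≠ 1) {r : Ω} (hr : d • r = r) : r = p ∨ r = q := by
  classical
  by_contra hcon
  push Not at hcon
  set j := Nat.card (pair G p q) with hj
  have hjpos : 0 < j := Nat.card_pos
  let F : Set Ω := {y | d • y = y}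
  let C : Subgroup G := centralizer ({d} : Set G)
  have hCmem : ∀ g : G, g ∈ C ↔ Commute g d := fun g => mem_centralizer_singleton_iff
  have hpair : ∀ y ∈ F, ∀ g ∈ C, g • y = y → g ∈ pair G p q := fun y hy g hg hgy => by
    by_cases hyp : y = p
    · exact hP.centralizer_pair hpq hd hd1 (hyp ▸ hgy) ((hCmem g).mp hg)
    · rw [← hP.pair_eq hpq hyp hd hd1 hy, pair_comm]
      exact hP.centralizer_pair hyp (mem_pair.mpr ⟨hy, hd.1⟩) hd1 hgy ((hCmem g).mp hg)
  obtain ⟨u, hu⟩ := hP.exists_swap' hpq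
  have hud : u * d * u = d⁻¹ := hP.pair_inverted hpq hu hd
  let I : Set G := {w | Inv2 w ∧ w * d * w = d⁻¹}
  -- each of the involutions inverting `d` inverts the whole centraliser
  have hinvC : ∀ w ∈ I, ∀ g ∈ C, w * g * w = g⁻¹ := fun w hw g hg =>
    hP.cent_inverted hpq hd hd1 hw.1 hw.2 ((hCmem g).mp hg)
  have hI_F : ∀ w ∈ I, w • p ∈ F ∧ w • p ≠ p := by
    rintro w ⟨hw, hwd⟩
    have e : d * w = w * d⁻¹ := by
      rw [← hwd, show w * (w * d * w) = (w * w) * d * w by group, hw.2, one_mul]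
    refine ⟨show d • w • p = w • p by
      rw [smul_smul, e, mul_smul, inv_smul_eq_iff.2 hd.1.symm], fun hwp => ?_⟩
    have hA : w * (d * w * d⁻¹) ∈ A p :=
      mul_mem (hP.invol_mem hw hwp) (hP.normal p d hd.1 _ (hP.invol_mem hw hwp))
    rw [show w * (d * w * d⁻¹) = (w * d * w) * d⁻¹ by group, hwd] at hA
    have := hP.pair_inf hpq (mul_mem (inv_mem hd) (inv_mem hd)) hA
    exact hP.pair_sq_ne_one hpq hd hd1 (by rwa [← mul_inv_rev, inv_eq_one] at this)
  -- count them by image
  have hI1 : Nat.card I = (Nat.card F - 1) * j := by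
    let f : I → {y : Ω // y ∈ F ∧ y ≠ p} := fun w => ⟨(w : G) • p, hI_F w w.2⟩
    have := Fintype.ofFinite {y : Ω // y ∈ F ∧ y ≠ p}
    have hfib : ∀ y, Nat.card {w : I // f w = y} = j := by
      rintro ⟨y, hy, hyp⟩
      have e : j = Nat.card (swaps G p y) := by
        rw [hP.card_swaps hyp.symm, hj, hP.card_pair hpq, hP.card_invAt_eq]
      rw [e]
      refine Nat.card_congr
        { toFun := fun w => ⟨(w.1 : G), w.1.2.1, congrArg Subtype.val w.2⟩
          invFun := fun w => ⟨⟨w.1, w.2.1, hP.pair_inverted hyp.symm w.2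
            (mem_pair.mpr ⟨hd.1, hy⟩)⟩, Subtype.ext w.2.2⟩
          left_inv := fun w => rfl
          right_inv := fun w => rfl }
    rw [Nat.card_congr (Equiv.sigmaFiberEquiv f).symm, Nat.card_sigma, Finset.sum_congr rfl
      (fun y _ => hfib y), Finset.sum_const, smul_eq_mul, Finset.card_univ, ← Nat.card_eq_fintype_card]
    congr 1
    rw [Nat.card_coe_set_eq F, ← Set.ncard_sdiff_singleton_of_mem (show p ∈ F from hd.1),
      ← Nat.card_coe_set_eq]
    exact Nat.card_congr (Equiv.subtypeEquivRight fun y => by simp)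
  -- and as a coset of the centraliser
  have hI2 : Nat.card I = Nat.card C := by
    have huI : u ∈ I := ⟨hu.1, hud⟩
    refine Nat.card_congr
      { toFun := fun w => ⟨(w : G) * u, ?_⟩
        invFun := fun g => ⟨(g : G) * u, ?_, ?_⟩
        left_inv := fun w => Subtype.ext (by simp [mul_assoc, hu.1.2])
        right_inv := fun g => Subtype.ext (by simp [mul_assoc, hu.1.2]) }
    · rw [hCmem]
      show (w : G) * u * d = d * (w * u)
      have e1 : u * d = d⁻¹ * u := by rw [← hud, mul_assoc, hu.1.2, mul_one]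
      have e2 : (w : G) * d⁻¹ = d * w := by
        rw [← w.2.2, show (w : G) * (w * d * w) = (w * w) * d * w by group, w.2.1.2, one_mul]
      rw [mul_assoc, e1, ← mul_assoc, e2, mul_assoc]
    · refine ⟨fun e => ?_, ?_⟩
      · have huC : Commute u d := by
          have : (g : G) = u⁻¹ := eq_inv_of_mul_eq_one_left e
          rw [hu.1.inv_eq] at this
          rw [← this]; exact (hCmem g).mp g.2
        exact hP.pair_sq_ne_one hpq hd hd1 (by
          nth_rewrite 1 [show d = d⁻¹ by rw [← hud, huC.eq, mul_assoc, hu.1.2, mul_one]]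
          exact inv_mul_cancel d)
      · have h1 := hinvC u huI g g.2
        rw [show (g : G) * u * (g * u) = g * (u * g * u) by group, h1, mul_inv_cancel]
    · show (g : G) * u * d * (g * u) = d⁻¹
      have h1 := hinvC u huI g g.2
      have h2 : Commute (g : G) d := (hCmem g).mp g.2
      calc (g : G) * u * d * (g * u) = g * (u * (g * d) * u) := by rw [h2.eq]; group
        _ = g * ((u * g * u) * (u * d * u)) := by
          rw [show u * g * u * (u * d * u) = u * g * (u * u) * d * u by group, hu.1.2]; group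
        _ = d⁻¹ := by rw [h1, hud]; group
  have hF3 : 3 ≤ Nat.card F := by
    have : ({p, q, r} : Set Ω).ncard ≤ F.ncard := Set.ncard_le_ncard (by
      rintro x (rfl | rfl | rfl)
      exacts [hd.1, hd.2, hr])
    rw [Set.ncard_eq_three.mpr ⟨p, q, r, hpq, hcon.1.symm, hcon.2.symm, rfl⟩,
      ← Nat.card_coe_set_eq] at this
    exact this
  -- the orbits of the centraliser on the fixed points are too big
  have horb : ∀ y ∈ F, (orbit C y).ncard = Nat.card F - 1 ∧ orbit C y ⊆ F := fun y hy => by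
    refine ⟨?_, ?_⟩
    · have hst : Nat.card (stabilizer C y) = j := by
        refine Nat.card_congr
          { toFun := fun g => ⟨((g : C) : G), hpair y hy _ (g : C).2 g.2⟩
            invFun := fun e => ⟨⟨e.1, (hCmem _).mpr (hP.pair_commute hpq e.2 hd)⟩,
              hP.fixed_of_fixed hpq hd hd1 hy e.1 e.2⟩
            left_inv := fun g => rfl
            right_inv := fun e => rfl }
      have h := (stabilizer C y).index_mul_card
      rw [index_stabilizer, hst, ← hI2, hI1] at h
      exact Nat.eq_of_mul_eq_mul_right hjpos h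
    · rintro _ ⟨⟨g, hg⟩, rfl⟩
      show d • g • y = g • y
      rw [smul_smul, ← ((hCmem g).mp hg).eq, mul_smul, show d • y = y from hy]
  obtain ⟨h1, hsub1⟩ := horb p hd.1
  obtain ⟨y, hyF, hy⟩ := Set.exists_mem_notMem_of_ncard_lt_ncard
    (s := orbit C p) (t := F) (by rw [h1, ← Nat.card_coe_set_eq]; omega)
  obtain ⟨h2, hsub2⟩ := horb y hyF
  have hdisj : Disjoint (orbit C y) (orbit C p) :=
    Set.disjoint_left.mpr fun z hz hz' => hy (by
      rw [← orbit_eq_iff.mpr hz', orbit_eq_iff.mpr hz]; exact mem_orbit_self y)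
  have := Set.ncard_le_ncard (Set.union_subset hsub2 hsub1)
  rw [Set.ncard_union_eq hdisj (Set.toFinite _) (Set.toFinite _), h1, h2,
    ← Nat.card_coe_set_eq] at this
  omega

theorem Conf.three [Finite G] [Finite Ω] {g : G} {p q r : Ω} (hpq : p ≠ q) (hrp : r ≠ p)
    (hrq : r ≠ q) (hp : g • p = p) (hq : g • q = q) (hr : g • r = r) : g = 1 := by
  by_contra h1
  rcases hP.fixed_eq hpq (mem_pair.mpr ⟨hp, hq⟩) h1 hr with h | h
  exacts [hrp h, hrq h]

/-- If two-point stabilisers are non-trivial then `A p` is regular on the other points. -/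
theorem Conf.regular [Finite G] [Finite Ω] {p q r : Ω} (hpq : p ≠ q) (hrp : r ≠ p)
    (hj : Nat.card (pair G p q) ≠ 1) : ∃! α : A p, (α : G) • q = r := by
  refine existsUnique_of_exists_of_unique ?_ ?_
  · have hne : pair G p r ≠ ⊥ := fun h => hj (by
      rw [hP.card_pair hpq, ← hP.card_pair hrp.symm, h, Subgroup.card_bot])
    obtain ⟨⟨h, hh⟩, hh0⟩ := Subgroup.ne_bot_iff_exists_ne_one.mp hne
    have hh1 : h ≠ 1 := fun e => hh0 (Subtype.ext e)
    obtain ⟨α, hα, d, hd, -, e⟩ := hP.exists_conj hpq hh.1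
      fun hA => hh1 (hP.pair_inf hrp.symm hh hA)
    have hq : h • α • q = α • q := by
      rw [smul_smul, e, inv_mul_cancel_right, mul_smul, hd.2]
    refine ⟨⟨α, hα⟩, (hP.fixed_eq hrp.symm hh hh1 hq).resolve_left fun hp => hpq ?_⟩
    exact (MulAction.injective α (hp.trans (hP.fix p α hα).symm)).symm
  · intro α β hα hβ
    have hmem : ((β : G)⁻¹ * α) ∈ pair G p q :=
      ⟨hP.fix p _ (mul_mem (inv_mem β.2) α.2), show ((β : G)⁻¹ * α) • q = q by
        rw [mul_smul, hα, ← hβ, inv_smul_smul]⟩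
    exact Subtype.ext (eq_of_inv_mul_eq_one
      (hP.pair_inf hpq hmem (mul_mem (inv_mem β.2) α.2))).symm

end Cfsg.Agent.InvAb
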