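import Cfsg.Agent.InvAb.Basic

/-!
# The centralisers of distinct Sylow 2-subgroups meet trivially

In a system with trivial centraliser of all involutions an element `x ≠ 1` commuting with two
non-commuting involutions would have a proper centraliser `M`, again a system; the involutions
outside `M` are then too many for the cosets of `M`.
-/

set_option autoImplicit false

open Subgroup MulAction
open Cfsg.Agent.Fg24.CT (Inv2 invAt swaps pair mem_pair pair_comm smul_of_swap)

namespace Cfsg.Agent.InvAb

universe u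

variable {G : Type u} [Group G]

theorem exists_fixed_of_involutive {α : Type*} [Finite α] (h : Odd (Nat.card α)) {f : α → α}
    (hf : Function.Involutive f) : ∃ a, f a = a := by
  classical
  have := Fintype.ofFinite α
  by_contra hne
  push Not at hne
  have h0 : (Fintype.card α : ZMod 2) = 0 := by
    rw [← Finset.card_univ, Finset.cast_card]
    exact Finset.sum_involution (fun a _ => f a) (fun a _ => CharTwo.add_self_eq_zero 1)
      (fun a _ _ => hne a) (fun a _ => Finset.mem_univ _) (fun a _ => hf a)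
  rw [Nat.card_eq_fintype_card] at h
  exact Nat.not_even_iff_odd.mpr h
    (even_iff_two_dvd.mpr (ZMod.natCast_eq_zero_iff_even.mp h0).two_dvd)

variable [Finite G] (hS : Sys G)
include hS

theorem Sys.exists_commuting {s : G} (hs : Inv2 s) :
    ∃ t : G, Inv2 t ∧ Commute s t ∧ s ≠ t := by
  obtain ⟨a, b, ha, hb, hab, hne⟩ := hS.four
  obtain ⟨g, hg⟩ := hS.isConj ha hs
  refine ⟨g * b * g⁻¹, hb.conj g, ?_, fun e => hne (mul_left_cancel (mul_right_cancel (hg.trans e)))⟩
  have := hab.map (MulAut.conj g).toMonoidHom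
  simpa [hg] using this

/-- The centraliser of an element commuting with two non-commuting involutions is a system. -/
theorem Sys.centralizer_sys {x s t : G} (hs : Inv2 s) (ht : Inv2 t) (hst : ¬ Commute s t)
    (hxs : Commute x s) (hxt : Commute x t) : Sys ↥(centralizer ({x} : Set G)) where
  ab r hr a b ha hb :=
    Subtype.ext (hS.ab r (inv2_coe.mp hr) a b (congrArg Subtype.val ha) (congrArg Subtype.val hb)).eq
  four := by
    obtain ⟨r, hr, hsr, hne⟩ := hS.exists_commuting hs
    have hxr : Commute r x := (hS.ab s hs x r hxs hsr.symm).symm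
    exact ⟨⟨s, mem_centralizer_singleton_iff.mpr hxs.symm.eq⟩,
      ⟨r, mem_centralizer_singleton_iff.mpr hxr.eq⟩, inv2_coe.mpr hs, inv2_coe.mpr hr,
      Subtype.ext hsr.eq, fun e => hne (congrArg Subtype.val e)⟩
  noncomm := ⟨⟨s, mem_centralizer_singleton_iff.mpr hxs.symm.eq⟩,
    ⟨t, mem_centralizer_singleton_iff.mpr hxt.symm.eq⟩, inv2_coe.mpr hs, inv2_coe.mpr ht,
    fun h => hst (congrArg Subtype.val h)⟩

/-- The main step of the induction. -/
theorem Sys.no_common (hZ : Zi G = ⊥)
    (IH : ∀ (H : Type u) [Group H] [Finite H], Nat.card H < Nat.card G → Sys H → Zi H = ⊥ → Disj H)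
    {x s t : G} (hx1 : x ≠ 1) (hs : Inv2 s) (ht : Inv2 t) (hst : ¬ Commute s t)
    (hxs : Commute x s) (hxt : Commute x t) : False := by
  classical
  -- for any such element the odd elements at a point are central in the centraliser
  have key : ∀ y : G, y ≠ 1 → Commute y s → Commute y t →
      ∃ hd : Disj (↥(centralizer ({y} : Set G)) ⧸ Zi ↥(centralizer ({y} : Set G))),
      ∀ (z r : G), Odd (orderOf z) → Inv2 r → Commute r y → Commute z r →
        ∀ g : G, Commute g y → Commute g z := by
    intro y hy1 hys hyt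
    have hM := hS.centralizer_sys hs ht hst hys hyt
    have hne : centralizer ({y} : Set G) ≠ ⊤ := fun h => hy1 (by
      rw [← mem_bot, ← hZ]
      exact mem_Zi.mpr fun r _ => (mem_centralizer_singleton_iff.mp
        (h ▸ mem_top r : r ∈ centralizer ({y} : Set G))).symm)
    have hlt : Nat.card (↥(centralizer ({y} : Set G)) ⧸ Zi ↥(centralizer ({y} : Set G))) <
        Nat.card G := by
      refine lt_of_le_of_lt (Nat.card_le_card_of_surjective _ Quotient.mk''_surjective) ?_
      exact lt_of_le_of_ne (Nat.card_le_card_of_injective _ Subtype.val_injective)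
        fun e => hne (eq_top_of_card_eq _ e)
    have hd := IH _ hlt hM.quot hM.Zi_quot
    refine ⟨hd, fun z r hz hr hry hzr g hg => ?_⟩
    have hzy : Commute z y := hS.ab r hr z y hzr hry.symm
    have h1 := hM.odd_mem_Zi hd
      (y := ⟨z, mem_centralizer_singleton_iff.mpr hzy.eq⟩)
      (t := ⟨r, mem_centralizer_singleton_iff.mpr hry.eq⟩)
      (by rwa [← Subgroup.orderOf_coe]) (inv2_coe.mpr hr) (Subtype.ext hzr.eq)
    exact congrArg Subtype.val (hM.Zi_le_center hd h1 ⟨g, mem_centralizer_singleton_iff.mpr hg.eq⟩).eq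
  obtain ⟨hd, hβ⟩ := key x hx1 hxs hxt
  have hxodd : Odd (orderOf x) := hS.odd_orderOf_of_commute hs ht hst hxs hxt
  set M := centralizer ({x} : Set G) with hMdef
  have hmM : ∀ g, g ∈ M ↔ Commute g x := fun g => mem_centralizer_singleton_iff
  have hM : Sys M := hS.centralizer_sys hs ht hst hxs hxt
  -- an element central in `M` has the same centraliser
  have hγ : ∀ y : G, y ≠ 1 → Odd (orderOf y) → (∀ g, Commute g x → Commute g y) →
      ∀ g, Commute g y → Commute g x := by
    intro y hy1 hy hall g hg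
    obtain ⟨-, hβy⟩ := key y hy1 (hall s hxs.symm).symm (hall t hxt.symm).symm
    exact hβy x s hxodd hs (hall s hxs.symm) hxs g hg
  -- no involution outside `M` normalises it
  have hδ : ∀ u : G, Inv2 u → (∀ g, Commute g x → Commute (u * g * u) x) → Commute u x := by
    intro u hu hnorm
    let α := {r : M // Inv2 r}
    have hodd : Odd (Nat.card α) :=
      odd_card_invol (t := (⟨s, (hmM s).mpr hxs.symm⟩ : M)) (inv2_coe.mpr hs)
    let f : α → α := fun r => ⟨⟨u * r.1 * u, (hmM _).mpr (hnorm _ ((hmM _).mp r.1.2))⟩, by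
      rw [inv2_coe]
      have := (inv2_coe.mp r.2).conj u
      rwa [hu.inv_eq] at this⟩
    obtain ⟨⟨⟨r, hrM⟩, hr⟩, hfix⟩ := exists_fixed_of_involutive hodd (f := f) fun r => by
      refine Subtype.ext (Subtype.ext ?_)
      show u * (u * (r.1 : G) * u) * u = r.1
      rw [show u * (u * (r.1 : G) * u) * u = (u * u) * r.1 * (u * u) by group, hu.2, one_mul,
        mul_one]
    have hfix' : u * r * u = r := congrArg (fun z : α => ((z : M) : G)) hfix
    have hur : Commute u r := by
      show u * r = r * u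
      conv_rhs => rw [← hfix', mul_assoc, hu.2, mul_one]
    exact hS.ab r (inv2_coe.mp hr) u x hur ((hmM r).mp hrM).symm
  have hcentM : ∀ y : M, y ∈ Zi M → ∀ g : G, Commute g x → Commute g y := fun y hy g hg =>
    congrArg Subtype.val (hM.Zi_le_center hd hy ⟨g, (hmM g).mpr hg⟩).eq
  -- few involutions in each coset of `M`
  have hcoset : ∀ u : G, Inv2 u → u ∉ M →
      Nat.card {v : G // Inv2 v ∧ u⁻¹ * v ∈ M} < Nat.card {r : M // Inv2 r} := by
    intro u hu huM
    have huu : ∀ g : G, u * (u * g * u) * u = g := fun g => by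
      rw [show u * (u * g * u) * u = (u * u) * g * (u * u) by group, hu.2, one_mul, mul_one]
    have hconj : ∀ a b : G, u * (a * b) * u = u * a * u * (u * b * u) := fun a b => by
      rw [show u * a * u * (u * b * u) = u * a * (u * u) * b * u by group, hu.2, mul_one]; group
    have hmap : ∀ {a b : G}, Commute a b → Commute (u * a * u) (u * b * u) := fun {a b} h => by
      show u * a * u * (u * b * u) = u * b * u * (u * a * u)
      rw [← hconj, ← hconj, h.eq]
    let K : Subgroup M :=
      { carrier := {g | u * (g : G) * u ∈ M}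
        one_mem' := by
          show u * ((1 : M) : G) * u ∈ M
          rw [OneMemClass.coe_one, mul_one, hu.2]; exact one_mem _
        mul_mem' := fun {a b} ha hb => by
          show u * ((a * b : M) : G) * u ∈ M
          rw [Subgroup.coe_mul, hconj]; exact mul_mem ha hb
        inv_mem' := fun {a} ha => by
          show u * ((a⁻¹ : M) : G) * u ∈ M
          rw [Subgroup.coe_inv, show u * (a : G)⁻¹ * u = (u⁻¹ * a * u⁻¹)⁻¹ by group, hu.inv_eq]
          exact inv_mem ha }
    -- two elements central in `M` cannot be exchanged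
    have hsw : ∀ y : G, y ≠ 1 → Odd (orderOf y) → (∀ g, Commute g x → Commute g y) →
        (∀ g, Commute g x → Commute g (u * y * u)) → False := by
      intro y hy1 hy h1 h2
      refine huM ((hmM u).mpr (hδ u hu fun g hg => hγ y hy1 hy h1 _ ?_))
      have := hmap (h2 g hg)
      rwa [huu] at this
    have hK : Odd (Nat.card K) := by
      by_contra h
      obtain ⟨r, hr⟩ := exists_prime_orderOf_dvd_card' (G := K) 2
        (even_iff_two_dvd.mp (Nat.not_odd_iff_even.mp h))
      have hr2 : Inv2 ((r : M) : G) := by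
        rw [← Subgroup.orderOf_coe, ← Subgroup.orderOf_coe] at hr
        refine ⟨fun e => by simp [e] at hr, ?_⟩
        have := pow_orderOf_eq_one ((r : M) : G)
        rwa [hr, pow_two] at this
      set r' := u * ((r : M) : G) * u with hr'
      have hr'2 : Inv2 r' := by
        have := hr2.conj u
        rwa [hu.inv_eq] at this
      have hxr' : Commute (u * x * u) r' := (hmap ((hmM _).mp (r : M).2).symm)
      have hodd : Odd (orderOf (u * x * u)) := by
        have : orderOf (u * x * u) = orderOf x := by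
          conv_lhs => rw [show u * x * u = MulAut.conj u x by rw [MulAut.conj_apply, hu.inv_eq]]
          exact MulEquiv.orderOf_eq _ _
        rw [this]; exact hxodd
      exact hsw x hx1 hxodd (fun g hg => hg)
        (hβ _ r' hodd hr'2 ((hmM r').mp r.2) hxr')
    let Z' := (K ⊓ Zi M : Subgroup M)
    have hoddK : ∀ y : M, y ∈ K → Odd (orderOf (y : G)) := fun y hy => by
      rw [Subgroup.orderOf_coe]
      exact hK.of_dvd_nat (orderOf_dvd_natCard K hy)
    have hval : ∀ v : {v : G // Inv2 v ∧ u⁻¹ * v ∈ M}, u * (u⁻¹ * (v : G)) * u = (u⁻¹ * v)⁻¹ := by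
      intro v
      rw [mul_inv_rev, inv_inv, v.2.1.inv_eq, mul_inv_cancel_left]
    have hmem : ∀ (v : {v : G // Inv2 v ∧ u⁻¹ * v ∈ M}) (y : Z'),
        ∃ g : K, ((g : M) : G) = u⁻¹ * v * ((y : M) * (u * (y : M) * u)) := by
      intro v y
      have h1 : u⁻¹ * (v : G) * ((y : M) * (u * (y : M) * u)) ∈ M :=
        mul_mem v.2.2 (mul_mem (y : M).2 y.2.1)
      refine ⟨⟨⟨_, h1⟩, ?_⟩, rfl⟩
      show u * (u⁻¹ * (v : G) * ((y : M) * (u * (y : M) * u))) * u ∈ M
      rw [hconj, hval, hconj, huu]
      exact mul_mem (inv_mem v.2.2) (mul_mem y.2.1 (y : M).2)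
    choose Φ hΦ using hmem
    have hinj : Function.Injective
        fun p : {v : G // Inv2 v ∧ u⁻¹ * v ∈ M} × Z' => Φ p.1 p.2 := by
      rintro ⟨v, y⟩ ⟨w, z⟩ e
      simp only at e
      have e' := congrArg (fun g : K => ((g : M) : G)) e
      simp only [hΦ] at e'
      set Y := ((y : M) : G) with hY
      set W := ((z : M) : G) with hW
      set h := u⁻¹ * (v : G) with hh
      set h' := u⁻¹ * (w : G) with hh'
      set d := W * (u * W * u) * (Y * (u * Y * u))⁻¹ with hd'
      have hfixd : ∀ a : Z', u * (((a : M) : G) * (u * ((a : M) : G) * u)) * u =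
          ((a : M) : G) * (u * ((a : M) : G) * u) := fun a => by
        rw [hconj, huu]
        exact (hcentM _ a.2.2 _ ((hmM _).mp a.2.1)).eq
      have hdfix : u * d * u = d := by
        rw [hd', hconj, hfixd z, show u * (Y * (u * Y * u))⁻¹ * u
          = (u⁻¹ * (Y * (u * Y * u)) * u⁻¹)⁻¹ by group, hu.inv_eq, hfixd y]
      have hvd : h = h' * d := by rw [hd', ← mul_assoc, ← e']; group
      have hu' : h⁻¹ = h'⁻¹ * d := by
        rw [← hval v, ← hh, hvd, hconj, hdfix, hh', hval w]
      rw [hvd, mul_inv_rev] at hu'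
      have hc : Commute (h' * h') d⁻¹ ∧ h' * d⁻¹ * h'⁻¹ = d := by
        have h1 : h' * d⁻¹ * h'⁻¹ = d := by rw [mul_assoc, hu']; group
        refine ⟨?_, h1⟩
        have h2 : h' * d * h'⁻¹ = d⁻¹ := by
          rw [show h' * d * h'⁻¹ = (h' * d⁻¹ * h'⁻¹)⁻¹ by group, h1]
        show h' * h' * d⁻¹ = d⁻¹ * (h' * h')
        calc h' * h' * d⁻¹ = h' * (h' * d⁻¹ * h'⁻¹) * h'⁻¹ * (h' * h') := by group
          _ = d⁻¹ * (h' * h') := by rw [h1, h2]
      have hodd' : Odd (orderOf h') := hoddK ⟨h', w.2.2⟩
        (show u * h' * u ∈ M by rw [hh', hval w]; exact inv_mem w.2.2)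
      have hdd : d * d = 1 := by
        have h3 := hc.2
        rw [(commute_of_odd_sq hodd' hc.1).eq, mul_inv_cancel_right] at h3
        nth_rewrite 1 [← h3]
        rw [inv_mul_cancel]
      have hdK : d ∈ M ∧ u * d * u ∈ M := by
        have h1 : d ∈ M := by
          rw [hd']
          exact mul_mem (mul_mem (z : M).2 z.2.1) (inv_mem (mul_mem (y : M).2 y.2.1))
        exact ⟨h1, by rwa [hdfix]⟩
      have hd1 : d = 1 := odd_ne_inv2 (hoddK ⟨d, hdK.1⟩ hdK.2) hdd
      have hvw : v = w := Subtype.ext (mul_left_cancel (hvd.trans (by rw [hd1, mul_one])))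
      subst hvw
      have hyz : (y : M) = z := by
        by_contra hne
        -- `W⁻¹ * Y` and its conjugate would both be central in `M`
        set a : M := (z : M)⁻¹ * (y : M) with ha
        have haZ : a ∈ Zi M := mul_mem (inv_mem z.2.2) y.2.2
        have haK : a ∈ K := mul_mem (inv_mem z.2.1) y.2.1
        have ha1 : (a : G) ≠ 1 := fun h0 => hne (by
          have : a = 1 := Subtype.ext h0
          rw [ha] at this
          exact (inv_mul_eq_one.mp this).symm)
        have ha' : (a : G) = W⁻¹ * Y := by rw [ha, Subgroup.coe_mul, Subgroup.coe_inv]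
        have hua : u * (a : G) * u = (a : G)⁻¹ := by
          have e2 : W * (u * W * u) = Y * (u * Y * u) := mul_inv_eq_one.mp hd1
          rw [ha', hconj, show u * W⁻¹ * u = (u⁻¹ * W * u⁻¹)⁻¹ by group, hu.inv_eq,
            mul_inv_rev W⁻¹, inv_inv]
          calc (u * W * u)⁻¹ * (u * Y * u)
              = (W * (u * W * u))⁻¹ * (W * (u * Y * u)) := by group
            _ = (Y * (u * Y * u))⁻¹ * (W * (u * Y * u)) := by rw [e2]
            _ = (u * Y * u)⁻¹ * (Y⁻¹ * W) * (u * Y * u) := by group
            _ = Y⁻¹ * W := by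
              have h1 : Commute (u * Y * u) (Y⁻¹ * W) := by
                have hu1 : Commute (u * Y * u) x := (hmM _).mp y.2.1
                exact (hcentM _ y.2.2 _ hu1).inv_right.mul_right (hcentM _ z.2.2 _ hu1)
              rw [mul_assoc, ← h1.eq, inv_mul_cancel_left]
        refine hsw (a : G) ha1 (hoddK a haK) (hcentM a haZ) fun g hg => ?_
        rw [hua]
        exact (hcentM a haZ g hg).inv_right
      have : y = z := Subtype.ext hyz
      subst this
      rfl
    have hle := Nat.card_le_card_of_injective _ hinj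
    rw [Nat.card_prod] at hle
    exact Nat.lt_of_mul_lt_mul_right (lt_of_le_of_lt hle (hM.odd_lt hd hK))
  -- counting
  set n := Nat.card {r : G // Inv2 r} with hn
  set m := Nat.card {r : M // Inv2 r} with hm
  have hnm : n = M.index * m := by
    have hsM : s ∈ M := (hmM s).mpr hxs.symm
    have hle : centralizer ({s} : Set G) ≤ M := fun g hg =>
      (hmM g).mpr (hS.ab s hs g x (mem_centralizer_singleton_iff.mp hg) hxs)
    have hsub : centralizer ({(⟨s, hsM⟩ : M)} : Set M)
        = (centralizer ({s} : Set G)).subgroupOf M := by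
      ext g
      rw [mem_subgroupOf, mem_centralizer_singleton_iff, mem_centralizer_singleton_iff]
      exact ⟨fun h => congrArg Subtype.val h, fun h => Subtype.ext h⟩
    rw [hn, hm, hS.card_invol hs, hM.card_invol (s := (⟨s, hsM⟩ : M)) (inv2_coe.mpr hs), hsub,
      mul_comm]
    exact (relIndex_mul_index hle).symm
  let Out := {r : G // Inv2 r ∧ r ∉ M}
  have hout : Nat.card Out + m = n := by
    have e1 : m = Nat.card {r : G // Inv2 r ∧ r ∈ M} :=
      Nat.card_congr
        { toFun := fun r => ⟨(r.1 : G), inv2_coe.mp r.2, r.1.2⟩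
          invFun := fun r => ⟨⟨r.1, r.2.2⟩, inv2_coe.mpr r.2.1⟩
          left_inv := fun r => rfl
          right_inv := fun r => rfl }
    rw [e1, hn, ← Nat.card_congr (Equiv.sumCompl fun r : {r : G // Inv2 r} => (r : G) ∈ M),
      Nat.card_sum, Nat.card_congr (Equiv.subtypeSubtypeEquivSubtypeInter Inv2 (· ∈ M)),
      Nat.card_congr (Equiv.subtypeSubtypeEquivSubtypeInter Inv2 (· ∉ M)), add_comm]
  let π : Out → {q : G ⧸ M // q ≠ ((1 : G) : G ⧸ M)} := fun r => ⟨((r : G) : G ⧸ M), fun e =>
    r.2.2 (by simpa using QuotientGroup.eq.mp e)⟩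
  have hfib : ∀ q, Nat.card {r // π r = q} ≤ m - 1 := by
    intro q
    by_cases hne : ∃ r, π r = q
    · obtain ⟨u, hu⟩ := hne
      refine Nat.le_sub_one_of_lt (lt_of_le_of_lt (Nat.card_le_card_of_injective
        (fun r => ⟨((r : Out) : G), (r : Out).2.1, QuotientGroup.eq.mp
          (congrArg Subtype.val (hu.trans r.2.symm))⟩) fun r r' e =>
          Subtype.ext (Subtype.ext (by simpa using e))) (hcoset u u.2.1 u.2.2))
    · have : IsEmpty {r // π r = q} := ⟨fun r => hne ⟨r, r.2⟩⟩
      simp
  have hbound : Nat.card Out ≤ (M.index - 1) * (m - 1) := by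
    have := Fintype.ofFinite {q : G ⧸ M // q ≠ ((1 : G) : G ⧸ M)}
    rw [Nat.card_congr (Equiv.sigmaFiberEquiv π).symm, Nat.card_sigma]
    refine (Finset.sum_le_card_nsmul _ _ (m - 1) fun q _ => hfib q).trans_eq ?_
    rw [smul_eq_mul, Finset.card_univ, ← Nat.card_eq_fintype_card]
    congr 1
    have e : Nat.card {q : G ⧸ M // q ≠ ((1 : G) : G ⧸ M)} + 1 = Nat.card (G ⧸ M) := by
      rw [← Finite.card_option]; exact Nat.card_congr (Equiv.optionSubtypeNe _)
    rw [index_eq_card]; omega
  have hMne : M ≠ ⊤ := fun h => hx1 (by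
    rw [← mem_bot, ← hZ]
    exact mem_Zi.mpr fun r _ => ((hmM r).mp (h ▸ mem_top r)).symm)
  have hidx : 2 ≤ M.index := by
    have h1 := M.index_ne_zero_of_finite
    have h2 : M.index ≠ 1 := fun h => hMne (index_eq_one.mp h)
    omega
  have hm1 : 1 ≤ m := by
    have : Nonempty {r : M // Inv2 r} := ⟨⟨⟨s, (hmM s).mpr hxs.symm⟩, inv2_coe.mpr hs⟩⟩
    exact Nat.card_pos
  obtain ⟨N', hN'⟩ := Nat.exists_eq_add_of_le hidx
  obtain ⟨m', hm'⟩ := Nat.exists_eq_add_of_le hm1
  rw [hN', hm'] at hnm hbound
  rw [hm', hnm] at hout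
  simp only [Nat.add_sub_cancel_left, show 2 + N' - 1 = 1 + N' by omega] at hbound
  nlinarith

omit hS in
theorem disj_of_sys_aux : ∀ (n : ℕ) (G : Type u) [Group G] [Finite G], Nat.card G ≤ n → Sys G →
    Zi G = ⊥ → Disj G := by
  intro n
  induction n with
  | zero =>
    intro G _ _ h
    have := Nat.card_pos (α := G)
    omega
  | succ n ih =>
    intro G _ _ hn hS hZ P Q hPQ x hxP hxQ
    by_contra hx1
    obtain ⟨s, -, hs, -⟩ := hS.four_at P
    obtain ⟨t, -, ht, -⟩ := hS.four_at Q
    have hsP := invol_mem_sylow hs.1 hs.2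
    have htQ := invol_mem_sylow ht.1 ht.2
    refine hS.no_common hZ (fun H _ _ hH hSH hZH => ih H (by omega) hSH hZH) hx1 hs.1 ht.1 ?_
      ((hS.mem_ker2 hs.1 hsP).mp hxP) ((hS.mem_ker2 ht.1 htQ).mp hxQ)
    intro hst
    exact hPQ (hS.sylow_unique ht.1
      (invol_mem_sylow ht.1 (ker2_fix ((hS.mem_ker2 hs.1 hsP).mpr hst.symm))) htQ)

/-- The centralisers of distinct Sylow 2-subgroups meet trivially. -/
theorem Sys.disj (hZ : Zi G = ⊥) : Disj G := disj_of_sys_aux _ G le_rfl hS hZ

end Cfsg.Agent.InvAb
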