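import Cfsg.Agent.InvAb.Config
import Cfsg.Agent.Char.Frobenius
import Cfsg.Agent.RankOne.AbelianKernel
import Cfsg.Agent.Zassenhaus.EvenSharp
import Cfsg.Agent.SL2Class.Classes

/-!
# Simple groups with abelian involution centralisers

A simple group with the configuration `InvAb.Conf` is sharply triply transitive with elementary
abelian kernel, hence `SL(2, 2^f)`.
-/

set_option autoImplicit false

open Subgroup MulAction
open Cfsg.Agent.Fg24.CT (Inv2 invAt swaps pair mem_pair pair_comm smul_of_swap)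

namespace Cfsg.Agent.InvAb

universe u v

variable {G : Type u} [Group G]

/-- From the configuration to the identification. -/
theorem identify [Finite G] [IsSimpleGroup G] {Ω : Type v} [MulAction G Ω] [Finite Ω]
    {A : Ω → Subgroup G} (hP : Conf A) (a : Ω) :
    (∀ x ∈ A a, x * x = 1) ∧ Nat.card Ω = Nat.card (A a) + 1 ∧ ∃ (F : Type) (_ : Field F) (_ : Fintype F) (f : ℕ), 2 ≤ f ∧ Fintype.card F = 2 ^ f ∧
      Nonempty (G ≃* Matrix.SpecialLinearGroup (Fin 2) F) := by
  classical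
  obtain ⟨t₀, ht₀, ha⟩ := hP.invAt_nonempty a
  obtain ⟨x, hxa⟩ := hP.nontriv a
  have hax : a ≠ x := hxa.symm
  have htA : t₀ ∈ A a := hP.invol_mem ht₀ ha
  set j := Nat.card (pair G a x) with hjdef
  have hjall : ∀ p q : Ω, p ≠ q → Nat.card (pair G p q) = j := fun p q h => by
    rw [hP.card_pair h, hjdef, hP.card_pair hax, hP.card_invAt_eq]
  -- two-point stabilisers are non-trivial
  have hj1 : j ≠ 1 := by
    intro h1
    have hmal : ∀ g : G, g ∉ stabilizer G a → ∀ h ∈ stabilizer G a,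
        g * h * g⁻¹ ∈ stabilizer G a → h = 1 := by
      intro g hg h hh hgh
      have hne : a ≠ g⁻¹ • a := fun e => hg (eq_inv_smul_iff.mp e)
      have hmem : h ∈ pair G a (g⁻¹ • a) := ⟨hh, by
        have e : g • h • g⁻¹ • a = a := by rw [smul_smul, smul_smul]; exact hgh
        show h • g⁻¹ • a = g⁻¹ • a
        exact eq_inv_smul_iff.mpr e⟩
      have := Subgroup.card_eq_one.mp ((hjall _ _ hne).trans h1)
      rwa [this, mem_bot] at hmem
    obtain ⟨N, hN, hc, -⟩ := Char.frobenius_kernel (stabilizer G a) hmal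
    rcases hN.eq_bot_or_eq_top with rfl | rfl
    · obtain ⟨g, hg⟩ := hP.trans a x
      have := isComplement'_bot_left.mp hc
      exact hax ((mem_stabilizer_iff.mp (this.symm ▸ mem_top g : g ∈ stabilizer G a)).symm.trans hg)
    · have := isComplement'_top_left.mp hc
      exact ht₀.1 (by simpa [this] using (show t₀ ∈ stabilizer G a from ha))
  obtain ⟨⟨d₀, hd₀⟩, hd₀'⟩ := Subgroup.ne_bot_iff_exists_ne_one.mp
    (fun h => hj1 (by rw [hjdef, h, Subgroup.card_bot]) : pair G a x ≠ ⊥)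
  have hd₀1 : d₀ ≠ 1 := fun e => hd₀' (Subtype.ext e)
  have hreg : ∀ y z : Ω, y ≠ a → z ≠ a → ∃! α : A a, (α : G) • y = z := fun y z hy hz =>
    hP.regular hy.symm hz (by rw [hjall _ _ hy.symm]; exact hj1)
  have htwo : ∀ {p q p' q' : Ω}, p ≠ q → p' ≠ q' → ∃ g : G, g • p = p' ∧ g • q = q' := by
    intro p q p' q' h h'
    obtain ⟨g, hg⟩ := hP.trans p a
    obtain ⟨k, hk⟩ := hP.trans p' a
    have h1 : g • q ≠ a := fun e => h (MulAction.injective g (e.trans hg.symm)).symm
    have h2 : k • q' ≠ a := fun e => h' (MulAction.injective k (e.trans hk.symm)).symm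
    obtain ⟨α, hα, -⟩ := hreg _ _ h1 h2
    refine ⟨k⁻¹ * α * g, ?_, ?_⟩
    · rw [mul_smul, mul_smul, hg, hP.fix a α α.2, ← hk, inv_smul_smul]
    · rw [mul_smul, mul_smul, hα, inv_smul_smul]
  have : Nontrivial Ω := ⟨⟨a, x, hax⟩⟩
  have hker : (MulAction.toPermHom G Ω).ker = ⊥ := by
    refine (MonoidHom.normal_ker _).eq_bot_or_eq_top.resolve_right fun h => ?_
    obtain ⟨g, hg⟩ := hP.trans a x
    have : g ∈ (MulAction.toPermHom G Ω).ker := h ▸ mem_top g
    exact hax ((Equiv.ext_iff.mp (MonoidHom.mem_ker.mp this) a).symm.trans hg)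
  have hfaith : FaithfulSMul G Ω :=
    ⟨fun {g h} e => (MonoidHom.ker_eq_bot_iff _).mp hker (Equiv.ext e)⟩
  have hthree : ∀ (g : G) (p q r : Ω), p ≠ q → q ≠ r → p ≠ r → g • p = p → g • q = q → g • r = r →
      g = 1 := fun g p q r h1 h2 h3 => hP.three h1 h3.symm h2.symm
  have h2t : IsMultiplyPretransitive G Ω 2 :=
    is_two_pretransitive_iff.mpr fun h h' => htwo h h'
  have hZ : Cfsg.IsZassenhausGroup G Ω := by
    refine ⟨hfaith, h2t, hthree, ⟨d₀, hd₀1, a, x, hax, hd₀.1, hd₀.2⟩, fun N hN hNt => ⟨a, fun h => ?_⟩⟩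
    rcases hN.eq_bot_or_eq_top with rfl | rfl
    · obtain ⟨g, hg⟩ := hNt.exists_smul_eq a x
      have : (g : G) = 1 := (mem_bot.mp g.2)
      exact hax (by rw [← hg]; show a = (g : G) • a; rw [this, one_smul])
    · have : (⟨d₀, mem_top d₀⟩ : (⊤ : Subgroup G)) ∈ stabilizer (⊤ : Subgroup G) a := hd₀.1
      rw [h, mem_bot] at this
      exact hd₀1 (congrArg Subtype.val this)
  obtain ⟨t, ht⟩ := hP.exists_swap' hax
  have htx : t • a = x := ht.2
  have hS : Cfsg.IsRankOneSetup G Ω a t (A a) :=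
    { two_transitive := h2t
      mul_self := ht.1.2
      ne_one := ht.1.1
      not_mem := fun h => hax (h.symm.trans htx)
      le := fun y hy => hP.fix a y hy
      conj_mem := fun h hh y hy => hP.normal a h hh y hy
      inf_eq_bot := (eq_bot_iff_forall _).mpr fun y hy => hP.pair_inf hax
        (mem_pair.mpr ⟨hP.fix a y hy.1, by rw [← htx]; exact hy.2⟩) hy.1
      sup_eq := by
        rw [htx]
        refine le_antisymm (sup_le (fun y hy => hP.fix a y hy) inf_le_left) fun h hh => ?_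
        obtain ⟨α, hα, d, hd, rfl⟩ := hP.exists_eq_mul hax hh
        exact mul_mem (mem_sup_left hα) (mem_sup_right hd)
      even_card := by
        rw [even_iff_two_dvd]
        have e : orderOf (⟨t₀, htA⟩ : A a) = 2 := by
          rw [← Subgroup.orderOf_coe]
          exact orderOf_eq_prime (by rw [pow_two]; exact ht₀.2) ht₀.1
        rw [← e]
        exact orderOf_dvd_natCard _
      odd_card := by rw [htx]; exact hP.odd_pair hax }
  have hT := RankOne.threeFree_of_zassenhaus hZ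
  have hcardpair : Nat.card (RankOne.twoPt G a t) = j := by
    rw [hjdef]; unfold RankOne.twoPt; rw [htx]
  -- invariant subgroups of `A a` are large
  have hlarge : ∀ K : Subgroup G, K ≤ A a → (∀ d ∈ pair G a x, ∀ k ∈ K, d * k * d⁻¹ ∈ K) →
      ∀ k ∈ K, k ≠ 1 → j + 1 ≤ Nat.card K := by
    intro K hK hinv k hk hk1
    rw [← Finite.card_option]
    refine Nat.card_le_card_of_injective (fun o : Option (pair G a x) =>
      (o.elim 1 fun d => ⟨_, hinv d d.2 k hk⟩ : K)) ?_
    rintro (_ | d) (_ | e) h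
    · rfl
    · exact absurd (conj_eq_one_iff.mp (congrArg Subtype.val h).symm) hk1
    · exact absurd (conj_eq_one_iff.mp (congrArg Subtype.val h)) hk1
    · exact congrArg some (hP.conj_injective' hax (hK hk) hk1 (congrArg Subtype.val h))
  -- `A a` is a 2-group
  have h2 : IsPGroup 2 (A a) := by
    by_contra hno
    simp only [IsPGroup, not_forall, not_exists] at hno
    obtain ⟨⟨y, hy⟩, hy2⟩ := hno
    obtain ⟨k, m, hm, hym⟩ := Nat.exists_eq_two_pow_mul_odd (n := orderOf y) (orderOf_pos y).ne'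
    let K₁ : Subgroup G :=
      { carrier := {g | g ∈ A a ∧ Odd (orderOf g)}
        one_mem' := ⟨one_mem _, by simp⟩
        mul_mem' := fun {g h} hg hh => ⟨mul_mem hg.1 hh.1,
          (hg.2.mul hh.2).of_dvd_nat
            ((hP.comm a g hg.1 h hh.1).orderOf_mul_dvd_mul_orderOf)⟩
        inv_mem' := fun {g} hg => ⟨inv_mem hg.1, by rw [orderOf_inv]; exact hg.2⟩ }
    let K₂ : Subgroup G :=
      { carrier := {g | g ∈ A a ∧ ∃ i : ℕ, g ^ 2 ^ i = 1}
        one_mem' := ⟨one_mem _, 0, one_pow _⟩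
        mul_mem' := fun {g h} ⟨hg, i, hi⟩ ⟨hh, i', hi'⟩ => ⟨mul_mem hg hh, i + i', by
          rw [(hP.comm a g hg h hh).mul_pow, pow_add, pow_mul, hi, one_pow, one_mul, mul_comm,
            pow_mul, hi', one_pow]⟩
        inv_mem' := fun {g} ⟨hg, i, hi⟩ => ⟨inv_mem hg, i, by rw [inv_pow, hi, inv_one]⟩ }
    have hK₁ : j + 1 ≤ Nat.card K₁ := by
      refine hlarge K₁ (fun g hg => hg.1) (fun d hd g hg => ⟨hP.normal a d hd.1 g hg.1, ?_⟩)
        (y ^ 2 ^ k) ⟨pow_mem hy _, ?_⟩ fun e => hy2 k (Subtype.ext e)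
      · rw [← MulAut.conj_apply, MulEquiv.orderOf_eq]; exact hg.2
      · refine hm.of_dvd_nat (orderOf_dvd_of_pow_eq_one ?_)
        rw [← pow_mul, ← hym, pow_orderOf_eq_one]
    have hK₂ : j + 1 ≤ Nat.card K₂ := by
      refine hlarge K₂ (fun g hg => hg.1)
        (fun d hd g ⟨hg, i, hi⟩ => ⟨hP.normal a d hd.1 g hg, i, by rw [conj_pow, hi]; group⟩)
        t₀ ⟨htA, 1, by rw [pow_one, pow_two]; exact ht₀.2⟩ ht₀.1
    refine RankOne.AbelianKernel.not_sq_le hT hS (fun p hp q hq => (hP.comm a p hp q hq).eq) ?_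
    rw [hcardpair, pow_two]
    refine (Nat.mul_le_mul hK₁ hK₂).trans ?_
    rw [← Nat.card_prod]
    refine Nat.card_le_card_of_injective
      (fun g : K₁ × K₂ => (⟨g.1 * g.2, mul_mem g.1.2.1 g.2.2.1⟩ : A a)) ?_
    rintro ⟨⟨g, hg⟩, ⟨h, hh⟩⟩ ⟨⟨g', hg'⟩, ⟨h', hh'⟩⟩ e
    have e' : g * h = g' * h' := congrArg Subtype.val e
    have e2 : g'⁻¹ * g = h' * h⁻¹ := by
      calc g'⁻¹ * g = g'⁻¹ * (g * h) * h⁻¹ := by group
        _ = h' * h⁻¹ := by rw [e']; group
    have h1 : g'⁻¹ * g = 1 := by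
      obtain ⟨-, i, hi⟩ := mul_mem hh' (inv_mem hh)
      obtain ⟨-, hodd⟩ := mul_mem (inv_mem hg') hg
      rw [← e2] at hi
      rw [← orderOf_eq_one_iff]
      exact Nat.eq_one_of_dvd_coprimes ((Nat.coprime_two_right.mpr hodd).pow_right i)
        dvd_rfl (orderOf_dvd_of_pow_eq_one hi)
    have h3 : g' = g := inv_mul_eq_one.mp h1
    subst h3
    have h4 : h = h' := mul_left_cancel e'
    subst h4
    rfl
  have hexp := RankOne.AbelianKernel.exponent_two hT hS
    (fun p hp q hq => (hP.comm a p hp q hq).eq) h2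
  -- sharply three-transitive
  have hmove : ∀ y z : Ω, y ≠ a → y ≠ x → z ≠ a → z ≠ x → ∃ d ∈ pair G a x, d • y = z := by
    intro y z hya hyx hza hzx
    obtain ⟨⟨α, hα⟩, hαy, -⟩ := hreg x y hxa hya
    obtain ⟨⟨β, hβ⟩, hβz, -⟩ := hreg x z hxa hza
    simp only at hαy hβz
    have hα1 : α ≠ 1 := fun e => hyx (by rw [← hαy, e, one_smul])
    have hβ1 : β ≠ 1 := fun e => hzx (by rw [← hβz, e, one_smul])
    obtain ⟨d, hd, hdαβ⟩ := hP.pair_transitive hax
      (t := α) ⟨⟨hα1, hexp α hα⟩, hP.fix a α hα⟩ (s := β) ⟨⟨hβ1, hexp β hβ⟩, hP.fix a β hβ⟩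
    refine ⟨d, hd, ?_⟩
    rw [← hαy, ← hβz, ← hdαβ, smul_smul, mul_smul (d * α) d⁻¹, inv_smul_eq_iff.mpr hd.2.symm]
  have hn : Nat.card Ω = Nat.card (A a) + 1 := by
    have e : Nat.card (A a) = Nat.card {y : Ω // y ≠ a} := Nat.card_congr (Equiv.ofBijective
      (fun α => ⟨(α : G) • x, fun e => hxa (MulAction.injective (α : G)
        (e.trans (hP.fix a α α.2).symm))⟩)
      ⟨fun α β e => (hreg x _ hxa (fun e' => hxa (MulAction.injective (β : G)
          (e'.trans (hP.fix a β β.2).symm)))).unique (congrArg Subtype.val e) rfl,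
        fun y => by
          obtain ⟨α, hα, -⟩ := hreg x y hxa y.2
          exact ⟨α, Subtype.ext hα⟩⟩)
    rw [e, ← Finite.card_option]
    exact Nat.card_congr (Equiv.optionSubtypeNe a).symm
  have hA2 : 2 ≤ Nat.card (A a) := by
    have : Nontrivial (A a) := ⟨⟨⟨t₀, htA⟩, 1, fun e => ht₀.1 (congrArg Subtype.val e)⟩⟩
    exact Finite.one_lt_card
  have hodd : Odd (Nat.card Ω) := by rw [hn]; exact hS.even_card.add_one
  obtain ⟨f, K, iK, iFK, -, hK, hΩ, ⟨e⟩, -⟩ := (Zassenhaus.ZCtx.identify_even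
    (G := G) (Ω := Ω) ⟨htwo, hthree⟩ (by omega) hodd
    fun {p q r p' q' r'} h1 h2' h3 h1' h2'' h3' => by
      obtain ⟨g, hg1, hg2⟩ := htwo h1 hax
      obtain ⟨k, hk1, hk2⟩ := htwo h1' hax
      obtain ⟨d, hd, hdr⟩ := hmove (g • r) (k • r')
        (fun e => h2' (MulAction.injective g (hg1.trans e.symm)))
        (fun e => h3 (MulAction.injective g (hg2.trans e.symm)))
        (fun e => h2'' (MulAction.injective k (hk1.trans e.symm)))
        (fun e => h3' (MulAction.injective k (hk2.trans e.symm)))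
      refine ⟨k⁻¹ * d * g, ?_, ?_, ?_⟩
      · rw [mul_smul, mul_smul, hg1, hd.1, ← hk1, inv_smul_smul]
      · rw [mul_smul, mul_smul, hg2, hd.2, ← hk2, inv_smul_smul]
      · rw [mul_smul, mul_smul, hdr, inv_smul_smul])
  refine ⟨hexp, hn, K, iK, iFK, f, ?_, hK, ⟨e⟩⟩
  -- at least three involutions fix `a`
  have hj3 : 3 ≤ j := by
    obtain ⟨i, hi⟩ : Odd j := hP.odd_pair hax
    omega
  have hAj : j ≤ Nat.card (A a) := by
    rw [hjdef, hP.card_pair hax]
    exact Nat.card_le_card_of_injective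
      (fun s : invAt G a => (⟨s, hP.invol_mem s.2.1 s.2.2⟩ : A a))
      fun s s' h => Subtype.ext (congrArg (fun w : A a => (w : G)) h)
  by_contra hf
  push Not at hf
  interval_cases f <;> simp at hΩ <;> omega

end Cfsg.Agent.InvAb
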