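import Cfsg.Agent.InvAb.Identify

/-!
# The structure of a group with abelian involution centralisers

With at least two involutions at each point the configuration forces a simple group; its order is
`(a + 1) a (a - 1)` and a subgroup of odd order is smaller than the set of involutions.
-/

set_option autoImplicit false

open Subgroup MulAction
open Cfsg.Agent.Fg24.CT (Inv2 invAt swaps pair mem_pair pair_comm smul_of_swap)

namespace Cfsg.Agent.InvAb

universe u v

variable {G : Type u} [Group G]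

/-- A group of odd order normalised by two commuting involutions `s`, `t`, in which `s`, `t` and
`s * t` have the same centraliser, is centralised by `s`. -/
theorem commute_of_four [Finite G] {K : Subgroup G} (hK : Odd (Nat.card K)) {s t : G}
    (hs : s * s = 1) (ht : t * t = 1) (hst : Commute s t)
    (hsK : ∀ k ∈ K, s * k * s ∈ K) (htK : ∀ k ∈ K, t * k * t ∈ K)
    (hts : ∀ k ∈ K, Commute k t → Commute k s)
    (hprod : ∀ k ∈ K, Commute k (s * t) → Commute k s) {k : G} (hk : k ∈ K) : Commute k s := by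
  have cs : ∀ x y : G, s * (x * y) * s = s * x * s * (s * y * s) := fun x y => by
    rw [show s * x * s * (s * y * s) = s * x * (s * s) * y * s by group, hs]; group
  have ct : ∀ x y : G, t * (x * y) * t = t * x * t * (t * y * t) := fun x y => by
    rw [show t * x * t * (t * y * t) = t * x * (t * t) * y * t by group, ht]; group
  have hodd : ∀ x ∈ K, Odd (orderOf x) := fun x hx =>
    hK.of_dvd_nat (orderOf_dvd_natCard K hx)
  have hsq : ∀ x ∈ K, x * x = 1 → x = 1 := fun x hx h => by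
    have h2 : orderOf x ∣ 2 := orderOf_dvd_of_pow_eq_one (by rw [pow_two]; exact h)
    obtain ⟨i, hi⟩ := hodd x hx
    rw [← orderOf_eq_one_iff]
    have := Nat.le_of_dvd two_pos h2
    omega
  -- inverted by `s` implies inverted by `t`
  have key : ∀ y ∈ K, s * y * s = y⁻¹ → t * y * t = y⁻¹ := by
    intro y hy hys
    set e := y⁻¹ * (t * y * t) with he
    have heK : e ∈ K := mul_mem (inv_mem hy) (htK y hy)
    obtain ⟨i, hi⟩ := hodd e heK
    set f := e ^ (i + 1) with hf
    have hff : f * f = e := by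
      rw [hf, ← pow_add, show i + 1 + (i + 1) = orderOf e + 1 by omega, pow_succ,
        pow_orderOf_eq_one, one_mul]
    have hte : t * e * t = e⁻¹ := by
      rw [he, ct, mul_inv_rev, inv_inv, show t * (t * y * t) * t = (t * t) * y * (t * t) by group,
        ht, mul_one, one_mul, mul_inv_rev, mul_inv_rev, inv_eq_of_mul_eq_one_right ht]
      group
    have htf : t * f * t = f⁻¹ := by
      have h := conj_pow (a := t) (b := e) (i := i + 1)
      rw [inv_eq_of_mul_eq_one_right ht, hte, inv_pow] at h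
      exact h.symm
    set c := y * f with hc
    have hcK : c ∈ K := mul_mem hy (pow_mem heK _)
    have hyc : y = c * f⁻¹ := by rw [hc]; group
    have htc : t * c * t = c := by
      have : t * y * t = y * e := by rw [he]; group
      rw [hc, ct, this, htf, ← hff]; group
    have htyt : t * y * t = c * f := by
      rw [show t * y * t = y * e by rw [he]; group, ← hff, hc]; group
    have hct : Commute c t := by
      show c * t = t * c
      nth_rewrite 1 [← htc]
      rw [mul_assoc, ht, mul_one]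
    have hsc : s * c * s = c := by
      rw [← (hts c hcK hct).eq, mul_assoc, hs, mul_one]
    have hsyi : s * y⁻¹ * s = y := by
      rw [← hys, show s * (s * y * s) * s = (s * s) * y * (s * s) by group, hs, one_mul, mul_one]
    have hstc : ∀ x, s * (t * x * t) * s = t * (s * x * s) * t := fun x => by
      rw [show s * (t * x * t) * s = (s * t) * x * (t * s) by group, hst.eq,
        show t * (s * x * s) * t = (t * s) * x * (s * t) by group, hst.eq]
    have hstyt : s * (t * y * t) * s = (c * f)⁻¹ := by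
      rw [hstc, hys, ← htyt, mul_inv_rev, mul_inv_rev, inv_eq_of_mul_eq_one_right ht, mul_assoc]
    -- conjugating `c * f⁻¹ = y` and `c * f = t y t` by `s`
    have h1 : c * (s * f⁻¹ * s) = f * c⁻¹ := by
      calc c * (s * f⁻¹ * s) = s * (c * f⁻¹) * s := by rw [cs, hsc]
        _ = f * c⁻¹ := by rw [← hyc, hys, hyc]; group
    have h2 : c * (s * f * s) = f⁻¹ * c⁻¹ := by
      calc c * (s * f * s) = s * (c * f) * s := by rw [cs, hsc]
        _ = f⁻¹ * c⁻¹ := by rw [← htyt, hstyt]; group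
    have h12 : s * f * s = (s * f⁻¹ * s)⁻¹ := by
      rw [mul_inv_rev, mul_inv_rev, inv_inv, inv_eq_of_mul_eq_one_right hs]; group
    have h3 : f * c * c * f⁻¹ = (c * c)⁻¹ := by
      have e1 : s * f⁻¹ * s = c⁻¹ * (f * c⁻¹) := by rw [← h1]; group
      have e2 : s * f * s = c * f⁻¹ * c := by rw [h12, e1]; group
      rw [e2] at h2
      have e3 : f * (c * (c * f⁻¹ * c)) * c⁻¹ = f * (f⁻¹ * c⁻¹) * c⁻¹ := by rw [h2]
      calc f * c * c * f⁻¹ = f * (c * (c * f⁻¹ * c)) * c⁻¹ := by group
        _ = f * (f⁻¹ * c⁻¹) * c⁻¹ := e3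
        _ = (c * c)⁻¹ := by group
    have hcomm : Commute (f * f) (c * c) := by
      show f * f * (c * c) = c * c * (f * f)
      have h4 : f * (c * c)⁻¹ * f⁻¹ = c * c := by
        rw [show f * (c * c)⁻¹ * f⁻¹ = (f * c * c * f⁻¹)⁻¹ by group, h3, inv_inv]
      calc f * f * (c * c) = f * (f * c * c * f⁻¹) * f⁻¹ * (f * f) := by group
        _ = f * (c * c)⁻¹ * f⁻¹ * (f * f) := by rw [h3]
        _ = c * c * (f * f) := by rw [h4]
    have hcomm' : Commute f (c * c) := by
      have := hcomm.pow_left (i + 1)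
      rwa [hff, ← hf] at this
    rw [show f * c * c * f⁻¹ = f * (c * c) * f⁻¹ by group, hcomm'.eq, mul_inv_cancel_right] at h3
    have hc1 : c = 1 := hsq c hcK (hsq _ (mul_mem hcK hcK) (mul_eq_one_iff_eq_inv.mpr h3))
    rw [htyt, hyc, hc1, one_mul, one_mul, inv_inv]
  -- so nothing but `1` is inverted by `s`
  have h0 : ∀ y ∈ K, s * y * s = y⁻¹ → y = 1 := fun y hy hys => by
    have hyst : Commute y (s * t) := by
      show y * (s * t) = s * t * y
      have h1 : s * (t * y * t) * s = y := by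
        rw [key y hy hys, ← hys, show s * (s * y * s) * s = (s * s) * y * (s * s) by group, hs,
          one_mul, mul_one]
      calc y * (s * t) = s * (t * y * t) * s * (s * t) := by rw [h1]
        _ = s * t * y * (t * (s * s) * t) := by group
        _ = s * t * y := by rw [hs, mul_one, ht, mul_one]
    have hys' := hprod y hy hyst
    refine hsq y hy (mul_eq_one_iff_eq_inv.mpr ?_)
    rw [← hys, ← hys'.eq, mul_assoc, hs, mul_one]
  have hk' := h0 (k⁻¹ * (s * k * s)) (mul_mem (inv_mem hk) (hsK k hk)) (by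
    rw [cs, show s * (s * k * s) * s = (s * s) * k * (s * s) by group, hs, mul_one, one_mul,
      mul_inv_rev, mul_inv_rev, mul_inv_rev, inv_inv, inv_eq_of_mul_eq_one_right hs]
    group)
  show k * s = s * k
  nth_rewrite 1 [inv_mul_eq_one.mp hk']
  rw [mul_assoc, hs, mul_one]

variable {Ω : Type v} [MulAction G Ω] {A : Ω → Subgroup G} (hP : Conf A)
include hP

/-- The configuration with at least two involutions at a point gives a simple group. -/
theorem Conf.isSimpleGroup [Finite G] [Finite Ω]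
    (hfour : ∀ p : Ω, ∃ s t : G, s ∈ invAt G p ∧ t ∈ invAt G p ∧ s ≠ t) : IsSimpleGroup G := by
  classical
  have hj : ∀ p q : Ω, p ≠ q → Nat.card (pair G p q) ≠ 1 := fun p q h h1 => by
    rw [hP.card_pair h] at h1
    obtain ⟨s, t, hs, ht, hst⟩ := hfour p
    have := (Nat.card_eq_one_iff_unique.mp h1).1
    exact hst (congrArg Subtype.val (Subsingleton.elim (⟨s, hs⟩ : invAt G p) ⟨t, ht⟩))
  have hinvol : ∀ p : Ω, ∀ t ∈ invAt G p, ∀ q : Ω, p ≠ q → ∀ s ∈ invAt G q,
      ∀ N : Subgroup G, N.Normal → t ∈ N → s ∈ N := by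
    intro p t ht q hpq s hs N hN htN
    obtain ⟨w, hw, e⟩ := hP.exists_swap hpq ht hs
    rw [← e]
    have := hN.conj_mem t htN w
    rwa [hw.1.inv_eq] at this
  -- every normal subgroup containing an involution is everything
  have htop : ∀ N : Subgroup G, N.Normal → (∀ t : G, Inv2 t → t ∈ N) → N = ⊤ := by
    intro N hN hall
    rw [eq_top_iff]
    rintro g -
    obtain ⟨t₀, ht₀⟩ := hP.invol_exists
    obtain ⟨p, -, -⟩ := hP.invol_fix t₀ ht₀
    have hswap : ∀ q : Ω, q ≠ p → ∃ w ∈ N, w • p = q := fun q hq => by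
      obtain ⟨w, hw⟩ := hP.exists_swap' hq.symm
      exact ⟨w, hall w hw.1, hw.2⟩
    obtain ⟨w, hwN, hw⟩ : ∃ w ∈ N, w • p = g • p := by
      by_cases h : g • p = p
      · exact ⟨1, one_mem _, by rw [one_smul, h]⟩
      · exact hswap _ h
    have hfix : (w⁻¹ * g) • p = p := by rw [mul_smul, ← hw, inv_smul_smul]
    obtain ⟨x, hxp⟩ := hP.nontriv p
    obtain ⟨α, hα, d, hd, e⟩ := hP.exists_eq_mul hxp.symm hfix
    have hpairN : ∀ d ∈ pair G p x, d ∈ N := by
      intro d hd
      obtain ⟨u, hu⟩ := hP.exists_swap' hxp.symm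
      have hud : Inv2 (u * d) := by
        refine ⟨fun e => hxp.symm ?_, ?_⟩
        · have : d = u := by rw [← hu.1.inv_eq]; exact eq_inv_of_mul_eq_one_right e
          rw [← hu.2, ← this, hd.1]
        · rw [show u * d * (u * d) = u * d * u * d by group, hP.pair_inverted hxp.symm hu hd,
            inv_mul_cancel]
      have := mul_mem (hall u hu.1) (hall _ hud)
      rwa [← mul_assoc, hu.1.2, one_mul] at this
    have hαN : α ∈ N := by
      obtain ⟨⟨d₀, hd₀⟩, hd₀'⟩ := Subgroup.ne_bot_iff_exists_ne_one.mp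
        (fun h => hj p x hxp.symm (by rw [h, Subgroup.card_bot]) : pair G p x ≠ ⊥)
      have hd₁ : d₀ ≠ 1 := fun e => hd₀' (Subtype.ext e)
      let f : A p → A p := fun β => ⟨β * (d₀ * (β : G)⁻¹ * d₀⁻¹),
        mul_mem β.2 (hP.normal p d₀ hd₀.1 _ (inv_mem β.2))⟩
      have hinj : Function.Injective f := by
        intro β γ h
        have h' : (β : G) * (d₀ * (β : G)⁻¹ * d₀⁻¹) = γ * (d₀ * (γ : G)⁻¹ * d₀⁻¹) :=
          congrArg Subtype.val h
        by_contra hne
        refine hd₁ (hP.eq_one_of_commute hxp.symm hd₀ (mul_mem (inv_mem γ.2) β.2)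
          (fun h1 => hne (Subtype.ext (eq_of_inv_mul_eq_one h1).symm)) (Commute.symm ?_))
        show (γ : G)⁻¹ * β * d₀ = d₀ * ((γ : G)⁻¹ * β)
        calc (γ : G)⁻¹ * β * d₀
            = (γ : G)⁻¹ * (β * (d₀ * (β : G)⁻¹ * d₀⁻¹)) * d₀ * β := by group
          _ = _ := by rw [h']; group
      obtain ⟨β, hβ⟩ := Finite.injective_iff_surjective.mp hinj ⟨α, hα⟩
      have hβ' : (β : G) * (d₀ * (β : G)⁻¹ * d₀⁻¹) = α := congrArg Subtype.val hβ
      rw [← hβ', show (β : G) * (d₀ * (β : G)⁻¹ * d₀⁻¹) = β * d₀ * (β : G)⁻¹ * d₀⁻¹ by group]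
      exact mul_mem (hN.conj_mem _ (hpairN _ hd₀) _) (inv_mem (hpairN _ hd₀))
    have := mul_mem hwN (e ▸ mul_mem hαN (hpairN d hd) : w⁻¹ * g ∈ N)
    rwa [mul_inv_cancel_left] at this
  have : Nontrivial G := by
    obtain ⟨t, ht⟩ := hP.invol_exists
    exact ⟨⟨t, 1, ht.1⟩⟩
  refine ⟨fun N hN => ?_⟩
  by_cases hex : ∃ t : G, Inv2 t ∧ t ∈ N
  · right
    obtain ⟨t, ht, htN⟩ := hex
    obtain ⟨p, hp, -⟩ := hP.invol_fix t ht
    refine htop N hN fun s hs => ?_
    obtain ⟨q, hq, -⟩ := hP.invol_fix s hs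
    by_cases hpq : p = q
    · subst hpq
      obtain ⟨r, hr⟩ := hP.nontriv p
      obtain ⟨s', hs'⟩ := hP.invAt_nonempty r
      exact hinvol r s' hs' p hr s ⟨hs, hq⟩ N hN
        (hinvol p t ⟨ht, hp⟩ r hr.symm s' hs' N hN htN)
    · exact hinvol p t ⟨ht, hp⟩ q hpq s ⟨hs, hq⟩ N hN htN
  · left
    have hodd : Odd (Nat.card N) := by
      by_contra h
      obtain ⟨x, hx⟩ := exists_prime_orderOf_dvd_card' (G := N) 2
        (even_iff_two_dvd.mp (Nat.not_odd_iff_even.mp h))
      rw [← Subgroup.orderOf_coe] at hx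
      exact hex ⟨x, ⟨fun e => by simp [e] at hx, by rw [← pow_two, ← hx, pow_orderOf_eq_one]⟩, x.2⟩
    rw [eq_bot_iff]
    intro k hk
    rw [Subgroup.mem_bot]
    obtain ⟨t₀, ht₀⟩ := hP.invol_exists
    obtain ⟨p, -, -⟩ := hP.invol_fix t₀ ht₀
    obtain ⟨q, hq⟩ := hP.nontriv p
    have hall : ∀ r : Ω, k ∈ A r := fun r => by
      obtain ⟨s, t, hs, ht, hne⟩ := hfour r
      have hst : Commute s t :=
        hP.comm r s (hP.invol_mem hs.1 hs.2) t (hP.invol_mem ht.1 ht.2)
      have hI : Inv2 (s * t) := by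
        refine ⟨fun e => hne ?_, ?_⟩
        · rw [← ht.1.inv_eq]; exact eq_inv_of_mul_eq_one_left e
        · rw [show s * t * (s * t) = s * (t * s) * t by group, ← hst.eq,
            show s * (s * t) * t = (s * s) * (t * t) by group, hs.1.2, ht.1.2, mul_one]
      have hsA := hP.invol_mem hs.1 hs.2
      refine hP.invol_cent r s hs.1 hs.2 k (commute_of_four hodd hs.1.2 ht.1.2 hst ?_ ?_ ?_ ?_ hk)
      · intro x hx; have := hN.conj_mem x hx s; rwa [hs.1.inv_eq] at this
      · intro x hx; have := hN.conj_mem x hx t; rwa [ht.1.inv_eq] at this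
      · exact fun x _ h => hP.comm r x (hP.invol_cent r t ht.1 ht.2 x h) s hsA
      · exact fun x _ h => hP.comm r x (hP.invol_cent r (s * t) hI
          (by rw [mul_smul, ht.2, hs.2]) x h) s hsA
    exact hP.disj p q hq.symm k (hall p) (hall q)

/-- The structure of the simple group: the kernels are elementary abelian and regular. -/
theorem Conf.kernel [Finite G] [Finite Ω]
    (hfour : ∀ p : Ω, ∃ s t : G, s ∈ invAt G p ∧ t ∈ invAt G p ∧ s ≠ t) (a : Ω) :
    (∀ x ∈ A a, x * x = 1) ∧ Nat.card Ω = Nat.card (A a) + 1 ∧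
      ∃ (F : Type) (_ : Field F) (_ : Fintype F) (f : ℕ), 2 ≤ f ∧ Fintype.card F = 2 ^ f ∧
        Nonempty (G ≃* Matrix.SpecialLinearGroup (Fin 2) F) := by
  have := hP.isSimpleGroup hfour
  exact identify hP a

theorem Conf.card_invAt [Finite G] [Finite Ω]
    (hfour : ∀ p : Ω, ∃ s t : G, s ∈ invAt G p ∧ t ∈ invAt G p ∧ s ≠ t) (a : Ω) :
    Nat.card (invAt G a) + 1 = Nat.card (A a) := by
  classical
  rw [← Finite.card_option]
  refine Nat.card_congr ((Equiv.optionCongr ?_).trans (Equiv.optionSubtypeNe (1 : A a)))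
  exact
    { toFun := fun t => ⟨⟨t, hP.invol_mem t.2.1 t.2.2⟩, fun e => t.2.1.1 (congrArg Subtype.val e)⟩
      invFun := fun x => ⟨((x : A a) : G), ⟨fun e => x.2 (Subtype.ext e),
        (hP.kernel hfour a).1 _ (x : A a).2⟩, hP.fix a _ (x : A a).2⟩
      left_inv := fun t => rfl
      right_inv := fun x => rfl }

/-- The number of involutions. -/
theorem Conf.card_involutions [Finite G] [Finite Ω]
    (hfour : ∀ p : Ω, ∃ s t : G, s ∈ invAt G p ∧ t ∈ invAt G p ∧ s ≠ t) (a : Ω) :
    Nat.card {t : G // Inv2 t} = Nat.card Ω * Nat.card (invAt G a) := by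
  classical
  let f : {t : G // Inv2 t} → Ω := fun t => (hP.invol_fix t t.2).choose
  have hfib : ∀ p, Nat.card {t // f t = p} = Nat.card (invAt G a) := fun p => by
    rw [hP.card_invAt_eq a p]
    refine Nat.card_congr
      { toFun := fun t => ⟨t.1, t.1.2, (congrArg (fun r => (t.1 : G) • r = r) t.2).mp (hP.invol_fix _ t.1.2).choose_spec.1⟩
        invFun := fun t => ⟨⟨t, t.2.1⟩, ?_⟩
        left_inv := fun t => rfl
        right_inv := fun t => rfl }
    exact hP.fix_unique t.2.1 (hP.invol_fix _ t.2.1).choose_spec.1 t.2.2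
  have := Fintype.ofFinite Ω
  rw [Nat.card_congr (Equiv.sigmaFiberEquiv f).symm, Nat.card_sigma,
    Finset.sum_congr rfl (fun p _ => hfib p), Finset.sum_const, smul_eq_mul, Finset.card_univ,
    ← Nat.card_eq_fintype_card]

theorem Conf.card_stabilizer [Finite G] {a x : Ω} (hax : a ≠ x) :
    Nat.card (stabilizer G a) = Nat.card (A a) * Nat.card (pair G a x) := by
  rw [← Nat.card_prod]
  refine (Nat.card_congr (Equiv.ofBijective
    (fun z : A a × pair G a x => (⟨(z.1 : G) * z.2,
      show ((z.1 : G) * z.2) • a = a by rw [mul_smul, z.2.2.1, hP.fix a _ z.1.2]⟩ :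
      stabilizer G a)) ⟨?_, ?_⟩)).symm
  · rintro ⟨⟨α, hα⟩, ⟨d, hd⟩⟩ ⟨⟨β, hβ⟩, ⟨e, he⟩⟩ h
    have h' : α * d = β * e := congrArg Subtype.val h
    have h2 : β⁻¹ * α = e * d⁻¹ := by
      calc β⁻¹ * α = β⁻¹ * (α * d) * d⁻¹ := by group
        _ = e * d⁻¹ := by rw [h']; group
    have h1 : β⁻¹ * α = 1 :=
      hP.pair_inf hax (h2 ▸ mul_mem he (inv_mem hd)) (mul_mem (inv_mem hβ) hα)
    have h3 : α = β := (inv_mul_eq_one.mp h1).symm
    subst h3
    have h4 : d = e := mul_left_cancel h'
    subst h4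
    rfl
  · rintro ⟨g, hg⟩
    obtain ⟨α, hα, d, hd, e⟩ := hP.exists_eq_mul hax hg
    exact ⟨⟨⟨α, hα⟩, ⟨d, hd⟩⟩, Subtype.ext e.symm⟩

/-- A subgroup of odd order is smaller than the set of involutions. -/
theorem Conf.odd_lt [Finite G] [Finite Ω]
    (hfour : ∀ p : Ω, ∃ s t : G, s ∈ invAt G p ∧ t ∈ invAt G p ∧ s ≠ t) {X : Subgroup G}
    (hX : Odd (Nat.card X)) : Nat.card X < Nat.card {t : G // Inv2 t} := by
  classical
  obtain ⟨t₀, ht₀⟩ := hP.invol_exists
  obtain ⟨a, -, -⟩ := hP.invol_fix t₀ ht₀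
  obtain ⟨x, hxa⟩ := hP.nontriv a
  have hexp : ∀ p : Ω, ∀ y ∈ A p, y * y = 1 := fun p => (hP.kernel hfour p).1
  have hn := (hP.kernel hfour a).2.1
  set m := Nat.card (invAt G a) with hm
  have hA := hP.card_invAt hfour a
  rw [hP.card_involutions hfour a]
  have hpairm : ∀ p q : Ω, p ≠ q → Nat.card (pair G p q) = m := fun p q h => by
    rw [hP.card_pair h, hm, hP.card_invAt_eq]
  have hstab : ∀ p : Ω, Nat.card (stabilizer G p) = (m + 1) * m := fun p => by
    obtain ⟨q, hq⟩ := hP.nontriv p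
    rw [hP.card_stabilizer hq.symm, hpairm p q hq.symm, ← hP.card_invAt hfour p,
      hP.card_invAt_eq p a]
  have : IsPretransitive G Ω := ⟨hP.trans⟩
  have hG : Nat.card G = (m + 2) * ((m + 1) * m) := by
    rw [← (stabilizer G a).index_mul_card, hstab, index_stabilizer_of_transitive, hn, ← hA]
  -- the order of `X` divides the odd part
  have h2 : IsPGroup 2 (A a) := fun y => ⟨1, by
    rw [pow_one, pow_two]; exact Subtype.ext (hexp a _ y.2)⟩
  have : Fact (Nat.Prime 2) := ⟨Nat.prime_two⟩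
  obtain ⟨k, hk⟩ := IsPGroup.iff_card.mp h2
  have hcop : (Nat.card X).Coprime (m + 1) := by
    rw [← hA, ← hm] at hk
    rw [hk]
    exact (Nat.coprime_two_right.mpr hX).pow_right k
  have hdvd : Nat.card X ∣ (m + 2) * m := by
    refine hcop.dvd_of_dvd_mul_left ?_
    rw [show (m + 1) * ((m + 2) * m) = Nat.card G by rw [hG]; ring]
    exact card_subgroup_dvd_card X
  have hm0 : 0 < m := by
    have : Nonempty (invAt G a) := (hP.invAt_nonempty a).elim fun t ht => ⟨⟨t, ht⟩⟩
    exact Nat.card_pos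
  rw [hn, ← hA]
  refine lt_of_le_of_ne (Nat.le_of_dvd (by positivity) hdvd) fun heq => ?_
  -- otherwise the stabilisers in `X` pair off the points
  have hXp : ∀ p : Ω, m ≤ Nat.card (stabilizer X p) := fun p => by
    have h := (stabilizer X p).index_mul_card
    rw [index_stabilizer] at h
    have hle : (orbit X p).ncard ≤ m + 2 := by
      rw [show m + 2 = Nat.card Ω by rw [hn, ← hA], ← Nat.card_coe_set_eq]
      exact Nat.card_le_card_of_injective _ Subtype.val_injective
    rw [heq, ← hm, show m + 1 + 1 = m + 2 from rfl] at h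
    by_contra hlt
    push Not at hlt
    have := Nat.mul_le_mul hle (Nat.le_sub_one_of_lt hlt)
    rw [h] at this
    have : (m + 2) * (m - 1) < (m + 2) * m := Nat.mul_lt_mul_of_pos_left (by omega) (by omega)
    omega
  have hm2 : 2 ≤ m := by
    obtain ⟨s, t, hs, ht, hne⟩ := hfour a
    have : Nontrivial (invAt G a) :=
      ⟨⟨⟨s, hs⟩, ⟨t, ht⟩, fun e => hne (congrArg Subtype.val e)⟩⟩
    exact Finite.one_lt_card
  -- the partner of a point
  have hpartner : ∀ p : Ω, ∃ q : Ω, q ≠ p ∧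
      (∀ g ∈ X, g • p = p → g • q = q) ∧ ∃ d ∈ X, d ≠ 1 ∧ d ∈ pair G p q := by
    intro p
    have : Nontrivial (stabilizer X p) := by
      rw [← Finite.one_lt_card_iff_nontrivial]; exact lt_of_lt_of_le hm2 (hXp p)
    obtain ⟨⟨⟨d, hdX⟩, hdp⟩, hd1⟩ := exists_ne (1 : stabilizer X p)
    have hdp' : d • p = p := hdp
    have hd1' : d ≠ 1 := fun e => hd1 (Subtype.ext (Subtype.ext e))
    have hnotA : ∀ g ∈ X, g ∈ A p → g = 1 := fun g hg hgA => by
      have h2 : orderOf g ∣ 2 := orderOf_dvd_of_pow_eq_one (by rw [pow_two]; exact hexp p g hgA)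
      obtain ⟨i, hi⟩ := hX.of_dvd_nat (orderOf_dvd_natCard X hg)
      have := Nat.le_of_dvd two_pos h2
      exact orderOf_eq_one_iff.mp (by omega)
    obtain ⟨r, hr⟩ := hP.nontriv p
    obtain ⟨α, hα, e, he, -, hde⟩ :=
      hP.exists_conj hr.symm hdp' (fun hA' => hd1' (hnotA d hdX hA'))
    have hq : d • α • r = α • r := by
      rw [smul_smul, hde, inv_mul_cancel_right, mul_smul, he.2]
    have hqp : α • r ≠ p := fun h => hr (MulAction.injective α (h.trans (hP.fix p α hα).symm))
    refine ⟨α • r, hqp, fun g hg hgp => ?_, d, hdX, hd1', mem_pair.mpr ⟨hdp', hq⟩⟩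
    refine (hP.centralizer_pair hqp.symm (mem_pair.mpr ⟨hdp', hq⟩) hd1' hgp ?_).2
    -- commutators in the stabiliser lie in the kernel
    obtain ⟨β, hβ, f, hf, hge⟩ := hP.exists_eq_mul hqp.symm hgp
    have hdd : d ∈ pair G p (α • r) := mem_pair.mpr ⟨hdp', hq⟩
    have hc := hP.pair_commute hqp.symm hf hdd
    have h1 : g * d * g⁻¹ * d⁻¹ = 1 := by
      refine hnotA _ (mul_mem (mul_mem (mul_mem hg hdX) (inv_mem hg)) (inv_mem hdX)) ?_
      rw [hge, show β * f * d * (β * f)⁻¹ * d⁻¹ = β * (f * d) * (f⁻¹ * β⁻¹) * d⁻¹ by group, hc.eq,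
        show β * (d * f) * (f⁻¹ * β⁻¹) * d⁻¹ = β * (d * β⁻¹ * d⁻¹) by group]
      exact mul_mem hβ (hP.normal p d hdp' _ (inv_mem hβ))
    exact mul_inv_eq_iff_eq_mul.mp (mul_inv_eq_one.mp h1)
  choose π hπ hπfix hπd using hpartner
  have hinv : ∀ p, π (π p) = p := fun p => by
    obtain ⟨d, hdX, hd1, hd⟩ := hπd p
    refine (hP.fixed_eq (hπ p).symm hd hd1 (hπfix (π p) d hdX hd.2)).resolve_right (hπ (π p))
  have heven : Even (Nat.card Ω) := by
    have := Fintype.ofFinite Ω
    have h0 : (Fintype.card Ω : ZMod 2) = 0 := by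
      rw [← Finset.card_univ, Finset.cast_card]
      exact Finset.sum_involution (fun p _ => π p) (fun p _ => CharTwo.add_self_eq_zero 1) (fun p _ _ => hπ p)
        (fun p _ => Finset.mem_univ _) (fun p _ => hinv p)
    rw [Nat.card_eq_fintype_card, even_iff_two_dvd]
    exact (ZMod.natCast_eq_zero_iff_even.mp h0).two_dvd
  rw [hn] at heven
  have hodd : Odd (Nat.card (A a) + 1) := by
    rw [hk]
    refine Even.add_one ((Nat.even_pow).mpr ⟨even_two, fun e => ?_⟩)
    rw [e, pow_zero, ← hA] at hk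
    omega
  exact Nat.not_even_iff_odd.mpr hodd heven

end Cfsg.Agent.InvAb
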